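import Mathlib
import Cfsg.Agent.H909.TwoCov
import Cfsg.Agent.PLocal.SL2Natural

/-!
# Generators of a double cover of `PSL(2,7)` (helper462, task 46)
-/

set_option autoImplicit false

namespace Cfsg.Agent.H462.LSeven

open Matrix Cfsg.Agent.H909

instance fact7 : Fact (Nat.Prime 7) := ⟨by norm_num⟩

abbrev S7 : Type := SpecialLinearGroup (Fin 2) (ZMod 7)
abbrev L7 : Type := ProjectiveSpecialLinearGroup (Fin 2) (ZMod 7)

/-- the projection -/
abbrev mk : S7 →* L7 := QuotientGroup.mk' (Subgroup.center S7)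

def u : S7 := ⟨!![1, 1; 0, 1], by decide⟩
def w : S7 := ⟨!![0, 1; -1, 0], by decide⟩
def d : S7 := ⟨!![4, 0; 0, 2], by decide⟩
def w2 : S7 := ⟨!![2, 3; 3, -2], by decide⟩

lemma neg_one_central : (-1 : S7) ∈ Subgroup.center S7 := by
  rw [Subgroup.mem_center_iff]
  intro g
  rw [mul_neg, neg_mul, mul_one, one_mul]

lemma mk_neg (g : S7) : mk (-g) = mk g := by
  have : (-g : S7) = g * (-1) := by rw [mul_neg, mul_one]
  rw [this, map_mul]
  have h : mk (-1 : S7) = 1 := (QuotientGroup.eq_one_iff _).2 neg_one_central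
  rw [h, mul_one]

lemma sq_eq_one_iff_of_side_eq {r : ZMod 7} (h : r ^ 2 = 1) : r = 1 ∨ r = -1 := by
  revert r; decide

lemma eq_of_mk_eq_one {g : S7} (h : mk g = 1) : g = 1 ∨ g = -1 := by
  have h1 : g ∈ Subgroup.center S7 := (QuotientGroup.eq_one_iff g).1 h
  rw [Matrix.SpecialLinearGroup.mem_center_iff] at h1
  obtain ⟨r, hr, hg⟩ := h1
  have h2 : r = 1 ∨ r = -1 := by
    rw [Fintype.card_fin] at hr
    exact sq_eq_one_iff_of_side_eq hr
  rcases h2 with rfl | rfl
  · left; apply Subtype.ext; rw [← hg]; simp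
  · right; apply Subtype.ext; rw [← hg]
    change Matrix.scalar (Fin 2) (-1 : ZMod 7) = -1
    rw [map_neg, map_one]

lemma eq_or_of_mk_eq {g k : S7} (h : mk g = mk k) : g = k ∨ g = -k := by
  have h1 : mk (g * k⁻¹) = 1 := by rw [map_mul, map_inv, h, mul_inv_cancel]
  rcases eq_of_mk_eq_one h1 with h2 | h2
  · left; exact mul_inv_eq_one.1 h2
  · right
    have := mul_inv_eq_iff_eq_mul.1 h2
    rw [this, neg_mul, one_mul]


lemma u7 : u ^ 7 = 1 := by decide +kernel
lemma w_sq : w * w = -1 := by decide +kernel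
lemma uw3 : (u * w) ^ 3 = 1 := by decide +kernel
lemma d3 : d ^ 3 = 1 := by decide +kernel
lemma dud : d * u = u ^ 2 * d := by decide +kernel
lemma wd : w * d = d⁻¹ * w := by decide +kernel
lemma w2_sq : w2 * w2 = -1 := by decide +kernel
lemma w_w2 : w * w2 = - (w2 * w) := by decide +kernel



def k1 : S7 := ⟨!![1, 3; 3, 3], by decide⟩
def k2 : S7 := ⟨!![1, 2; 6, 6], by decide⟩

lemma k1_w : k1 * w = w2 * k1 := by decide +kernel
lemma k2_w : k2 * w = w * w2 * k2 := by decide +kernel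

/-- the solutions -/
lemma sol_aux : ∀ g : S7, g * g = -1 → (u * g) ^ 3 = 1 → ∃ k : Fin 7, u ^ (k : ℕ) * w = g * u ^ (k : ℕ) := by
  decide +kernel

lemma conj_u : ∀ g : S7, g ^ 7 = 1 → g = 1 ∨ ∃ k : S7, k * u = g * k ∨ k * u = g⁻¹ * k := by
  decide +kernel

lemma five : ∀ g : S7, g ^ 5 = 1 → g = 1 := by
  decide +kernel

section TC

universe v
variable {P : Type v} {X : Type*} [Group P] [Group X]

lemma c_pow_odd {f : P →* X} {c : P} (h : TwoCov f c) {n : ℕ} (hn : Odd n) : c ^ n = c := by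
  obtain ⟨k, rfl⟩ := hn
  rw [pow_succ, pow_mul, pow_two, h.sq, one_pow, one_mul]

lemma commute_c {f : P →* X} {c : P} (h : TwoCov f c) (y : P) : Commute c y := h.cen y

lemma exists_odd_lift {f : P →* X} {c : P} (h : TwoCov f c) {n : ℕ} (hn : Odd n) {x : X} (hx : x ^ n = 1) :
    ∃ y, f y = x ∧ y ^ n = 1 := by
  obtain ⟨y, rfl⟩ := h.surj x
  rw [← map_pow] at hx
  rcases (h.ker _).1 hx with h1 | h1
  · exact ⟨y, rfl, h1⟩
  · refine ⟨c * y, by rw [map_mul, h.map_c, one_mul], ?_⟩
    rw [(commute_c h y).mul_pow, c_pow_odd h hn, h1, h.sq]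

lemma odd_lift_unique {f : P →* X} {c : P} (h : TwoCov f c) {n : ℕ} (hn : Odd n) {y z : P} (hy : y ^ n = 1)
    (hz : z ^ n = 1) (hyz : f y = f z) : y = z := by
  rcases h.eq_or hyz with h1 | h1
  · exact h1
  · exfalso
    rw [h1, (commute_c h z).mul_pow, c_pow_odd h hn, hz, mul_one] at hy
    exact h.ne hy

end TC

/-- generators of the double cover -/
structure Gens {P : Type*} [Group P] (f : P →* L7) (c : P) (X W t : P) : Prop where
  fX : f X = mk u
  fW : f W = mk w
  X7 : X ^ 7 = 1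
  W2 : W * W = c
  XW3 : (X * W) ^ 3 = 1
  t3 : t ^ 3 = 1
  tX : t * X = X ^ 2 * t
  Wt : W * t = t⁻¹ * W
  gen : Subgroup.closure {X, W} = ⊤
  uniq : ∀ W' : P, W' * W' = c → (X * W') ^ 3 = 1 → ∃ k : ℕ, X ^ k * W = W' * X ^ k

lemma mk_u_ne : mk u ≠ 1 := by
  intro h
  rcases eq_of_mk_eq_one h with h1 | h1
  · exact absurd h1 (by decide +kernel)
  · exact absurd h1 (by decide +kernel)

lemma mk_w_ne : mk w ≠ 1 := by
  intro h
  rcases eq_of_mk_eq_one h with h1 | h1
  · exact absurd h1 (by decide +kernel)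
  · exact absurd h1 (by decide +kernel)

lemma mk_w2_ne : mk w2 ≠ 1 := by
  intro h
  rcases eq_of_mk_eq_one h with h1 | h1
  · exact absurd h1 (by decide +kernel)
  · exact absurd h1 (by decide +kernel)

lemma mk_w_ne_w2 : mk w ≠ mk w2 := by
  intro h
  rcases eq_or_of_mk_eq h with h1 | h1
  · exact absurd h1 (by decide +kernel)
  · exact absurd h1 (by decide +kernel)

lemma up_one : Cfsg.Agent.PLocal.SL2Natural.up (1 : ZMod 7) = u := rfl

lemma closure_uw : Subgroup.closure ({u, w} : Set S7) = ⊤ := by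
  rw [eq_top_iff, ← Cfsg.Agent.PLocal.SL2Natural.closure_eq_top 7, Subgroup.closure_le]
  rintro x (rfl | rfl)
  · exact Subgroup.subset_closure (Or.inl rfl)
  · have h : (Cfsg.Agent.PLocal.SL2Natural.lo (1 : ZMod 7) : S7) = w * u⁻¹ * w⁻¹ := by decide +kernel
    rw [h]
    have hu : u ∈ Subgroup.closure ({u, w} : Set S7) := Subgroup.subset_closure (Or.inl rfl)
    have hw : w ∈ Subgroup.closure ({u, w} : Set S7) := Subgroup.subset_closure (Or.inr rfl)
    exact mul_mem (mul_mem hw (inv_mem hu)) (inv_mem hw)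

lemma not_li {P : Type*} [Group P] {f : P →* L7} {c : P} (h : TwoCov f c) : ¬ TwoCov.LI f (mk w) := by
  refine h.not_li_of_klein (b := mk w2) mk_w_ne mk_w2_ne mk_w_ne_w2 ?_ ?_
  · refine isConj_iff.2 ⟨mk k1, ?_⟩
    rw [← map_inv, ← map_mul, ← map_mul, k1_w, mul_inv_cancel_right]
  · refine isConj_iff.2 ⟨mk k2, ?_⟩
    rw [← map_inv, ← map_mul, ← map_mul, k2_w, mul_inv_cancel_right, map_mul]

theorem exists_gens {P : Type*} [Group P] {f : P →* L7} {c : P} (h : TwoCov f c) :
    ∃ X W t : P, Gens f c X W t := by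
  obtain ⟨X, hX, hX7⟩ := exists_odd_lift h (n := 7) (by decide) (x := mk u) (by rw [← map_pow, u7, map_one])
  obtain ⟨t, ht, ht3⟩ := exists_odd_lift h (n := 3) (by decide) (x := mk d) (by rw [← map_pow, d3, map_one])
  -- W
  obtain ⟨W, hW, hW2, hXW⟩ : ∃ W : P, f W = mk w ∧ W * W = c ∧ (X * W) ^ 3 = 1 := by
    obtain ⟨W, hW⟩ := h.surj (mk w)
    have h1 : f W * f W = 1 := by rw [hW, ← map_mul, w_sq, mk_neg, map_one]
    have h2 : W * W = c := h.sq_lift_of_not h1 (by rw [hW]; exact not_li h)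
    have h3 : f ((X * W) ^ 3) = 1 := by
      rw [map_pow, map_mul, hX, hW, ← map_mul, ← map_pow, uw3, map_one]
    rcases (h.ker _).1 h3 with h4 | h4
    · exact ⟨W, hW, h2, h4⟩
    · refine ⟨c * W, by rw [map_mul, h.map_c, one_mul, hW], by rw [h.sq_c_mul, h2], ?_⟩
      have h5 : X * (c * W) = c * (X * W) := by rw [← mul_assoc, ← h.cen X, mul_assoc]
      rw [h5, (commute_c h _).mul_pow, c_pow_odd h (by decide), h4, h.sq]
  refine ⟨X, W, t, hX, hW, hX7, hW2, hXW, ht3, ?_, ?_, ?_, ?_⟩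
  · have h1 : t * X * t⁻¹ = X ^ 2 := by
      apply odd_lift_unique h (n := 7) (by decide)
      · rw [conj_pow, hX7, mul_one, mul_inv_cancel]
      · rw [← pow_mul, mul_comm, pow_mul, hX7, one_pow]
      · rw [map_mul, map_mul, map_inv, map_pow, ht, hX, ← map_mul, ← map_inv, ← map_mul, ← map_pow]
        rw [dud, mul_inv_cancel_right]
    rw [← h1, inv_mul_cancel_right]
  · have h1 : W * t * W⁻¹ = t⁻¹ := by
      apply odd_lift_unique h (n := 3) (by decide)
      · rw [conj_pow, ht3, mul_one, mul_inv_cancel]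
      · rw [inv_pow, ht3, inv_one]
      · rw [map_mul, map_mul, map_inv, map_inv, ht, hW, ← map_mul, ← map_inv, ← map_mul, ← map_inv]
        rw [wd, mul_inv_cancel_right]
    rw [← h1, inv_mul_cancel_right]
  · have hc : c ∈ Subgroup.closure {X, W} := by
      rw [← hW2]
      exact mul_mem (Subgroup.subset_closure (Or.inr rfl)) (Subgroup.subset_closure (Or.inr rfl))
    have h1 : (Subgroup.closure {X, W}).map f = ⊤ := by
      rw [MonoidHom.map_closure, Set.image_pair, hX, hW]
      have h2 : (Subgroup.closure ({u, w} : Set S7)).map mk = ⊤ := by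
        rw [closure_uw, ← MonoidHom.range_eq_map, MonoidHom.range_eq_top]
        exact QuotientGroup.mk'_surjective _
      rw [MonoidHom.map_closure, Set.image_pair] at h2
      exact h2
    rw [eq_top_iff]
    intro x _
    have h2 : f x ∈ (Subgroup.closure {X, W}).map f := by rw [h1]; exact Subgroup.mem_top _
    obtain ⟨y, hy, hxy⟩ := h2
    rcases h.eq_or hxy with h3 | h3
    · rw [← h3]; exact hy
    · have h4 : x = c * y := by rw [h3, h.c_mul_c_mul]
      rw [h4]; exact mul_mem hc hy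
  · intro W' hW' hXW'
    obtain ⟨g, hg⟩ := QuotientGroup.mk'_surjective (Subgroup.center S7) (f W')
    have hg : mk g = f W' := hg
    have h1 : g * g = -1 := by
      have h2 : mk (g * g) = 1 := by rw [map_mul, hg, ← map_mul, hW', h.map_c]
      rcases eq_of_mk_eq_one h2 with h3 | h3
      · exfalso
        have h4 : g = 1 ∨ g = -1 := by
          revert h3
          clear * -
          revert g
          decide +kernel
        have h5 : f W' = 1 := by
          rw [← hg]
          rcases h4 with rfl | rfl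
          · exact map_one _
          · rw [mk_neg, map_one]
        rcases (h.ker _).1 h5 with h6 | h6
        · rw [h6, mul_one] at hW'
          exact h.ne hW'.symm
        · rw [h6, h.sq] at hW'
          exact h.ne hW'.symm
      · exact h3
    obtain ⟨g', hg', hg'2, hg'3⟩ : ∃ g' : S7, mk g' = f W' ∧ g' * g' = -1 ∧ (u * g') ^ 3 = 1 := by
      have h2 : mk ((u * g) ^ 3) = 1 := by
        rw [map_pow, map_mul, hg, ← hX, ← map_mul, ← map_pow, hXW', map_one]
      rcases eq_of_mk_eq_one h2 with h3 | h3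
      · exact ⟨g, hg, h1, h3⟩
      · refine ⟨-g, by rw [mk_neg, hg], by rw [neg_mul_neg, h1], ?_⟩
        rw [mul_neg, Odd.neg_pow (by decide), h3, neg_neg]
    obtain ⟨k, hk⟩ := sol_aux g' hg'2 hg'3
    refine ⟨k, ?_⟩
    have h2 : f (X ^ (k : ℕ) * W) = f (W' * X ^ (k : ℕ)) := by
      rw [map_mul, map_mul, map_pow, hX, hW, ← hg', ← map_pow, ← map_mul, ← map_mul, hk]
    rcases h.eq_or h2 with h3 | h3
    · exact h3
    · exfalso
      have h4 : W' = c * (X ^ (k : ℕ) * W * (X ^ (k : ℕ))⁻¹) := by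
        rw [h3]
        rw [mul_assoc c, ← mul_assoc, h.sq, one_mul, mul_inv_cancel_right]
      have h5 : X * W' = c * (X ^ (k : ℕ) * (X * W) * (X ^ (k : ℕ))⁻¹) := by
        rw [h4, ← mul_assoc, ← h.cen X, mul_assoc]
        congr 1
        rw [← mul_assoc, ← mul_assoc, ← mul_assoc, ← pow_succ, ← pow_succ']
      rw [h5, (commute_c h _).mul_pow, conj_pow, hXW, mul_one, mul_inv_cancel, mul_one,
        c_pow_odd h (by decide)] at hXW'
      exact h.ne hXW'

end Cfsg.Agent.H462.LSeven
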