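import Mathlib
import Cfsg.Prelude.Def_ClassicalGeometry
import Cfsg.Agent.ClassicalGeometry.SympBasic
import Cfsg.Agent.H909.SpBasic
import Cfsg.Agent.H462.LSevenGen

/-!
# `2.A_7` in `Sp_4(7)` (helper462, task 46)

`X0`, `W0` generate `SL_2(7)`; `RS` is a set of 42 matrices permuted by `X0`, `W0`, `Y0` but not by the
transvection `T0`.
-/

set_option autoImplicit false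

namespace Cfsg.Agent.H462.LSevenFin

open Matrix Cfsg

abbrev I4 : Type := Fin 2 ⊕ Fin 2
abbrev M4 : Type := Matrix I4 I4 (ZMod 7)

/-- matrices with natural number entries -/
structure N4 where
  a00 : ℕ
  a01 : ℕ
  a02 : ℕ
  a03 : ℕ
  a10 : ℕ
  a11 : ℕ
  a12 : ℕ
  a13 : ℕ
  a20 : ℕ
  a21 : ℕ
  a22 : ℕ
  a23 : ℕ
  a30 : ℕ
  a31 : ℕ
  a32 : ℕ
  a33 : ℕ
deriving DecidableEq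

def mul (a b : N4) : N4 := ⟨
    (a.a00 * b.a00 + a.a01 * b.a10 + a.a02 * b.a20 + a.a03 * b.a30) % 7,
    (a.a00 * b.a01 + a.a01 * b.a11 + a.a02 * b.a21 + a.a03 * b.a31) % 7,
    (a.a00 * b.a02 + a.a01 * b.a12 + a.a02 * b.a22 + a.a03 * b.a32) % 7,
    (a.a00 * b.a03 + a.a01 * b.a13 + a.a02 * b.a23 + a.a03 * b.a33) % 7,
    (a.a10 * b.a00 + a.a11 * b.a10 + a.a12 * b.a20 + a.a13 * b.a30) % 7,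
    (a.a10 * b.a01 + a.a11 * b.a11 + a.a12 * b.a21 + a.a13 * b.a31) % 7,
    (a.a10 * b.a02 + a.a11 * b.a12 + a.a12 * b.a22 + a.a13 * b.a32) % 7,
    (a.a10 * b.a03 + a.a11 * b.a13 + a.a12 * b.a23 + a.a13 * b.a33) % 7,
    (a.a20 * b.a00 + a.a21 * b.a10 + a.a22 * b.a20 + a.a23 * b.a30) % 7,
    (a.a20 * b.a01 + a.a21 * b.a11 + a.a22 * b.a21 + a.a23 * b.a31) % 7,
    (a.a20 * b.a02 + a.a21 * b.a12 + a.a22 * b.a22 + a.a23 * b.a32) % 7,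
    (a.a20 * b.a03 + a.a21 * b.a13 + a.a22 * b.a23 + a.a23 * b.a33) % 7,
    (a.a30 * b.a00 + a.a31 * b.a10 + a.a32 * b.a20 + a.a33 * b.a30) % 7,
    (a.a30 * b.a01 + a.a31 * b.a11 + a.a32 * b.a21 + a.a33 * b.a31) % 7,
    (a.a30 * b.a02 + a.a31 * b.a12 + a.a32 * b.a22 + a.a33 * b.a32) % 7,
    (a.a30 * b.a03 + a.a31 * b.a13 + a.a32 * b.a23 + a.a33 * b.a33) % 7⟩

def neg (a : N4) : N4 := ⟨(7 - a.a00) % 7, (7 - a.a01) % 7, (7 - a.a02) % 7, (7 - a.a03) % 7, (7 - a.a10) % 7, (7 - a.a11) % 7, (7 - a.a12) % 7, (7 - a.a13) % 7, (7 - a.a20) % 7, (7 - a.a21) % 7, (7 - a.a22) % 7, (7 - a.a23) % 7, (7 - a.a30) % 7, (7 - a.a31) % 7, (7 - a.a32) % 7, (7 - a.a33) % 7⟩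

def toM (n : N4) : M4 := Matrix.fromBlocks !![(n.a00 : ZMod 7), n.a01; n.a10, n.a11]
  !![(n.a02 : ZMod 7), n.a03; n.a12, n.a13] !![(n.a20 : ZMod 7), n.a21; n.a30, n.a31]
  !![(n.a22 : ZMod 7), n.a23; n.a32, n.a33]

lemma two_mul_add (a b c d e f g h a' b' c' d' e' f' g' h' : ZMod 7) :
    !![a, b; c, d] * !![e, f; g, h] + !![a', b'; c', d'] * !![e', f'; g', h'] =
      !![a * e + b * g + (a' * e' + b' * g'), a * f + b * h + (a' * f' + b' * h');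
        c * e + d * g + (c' * e' + d' * g'), c * f + d * h + (c' * f' + d' * h')] := by
  rw [Matrix.mul_fin_two, Matrix.mul_fin_two]
  ext i j
  fin_cases i <;> fin_cases j <;> rfl

lemma toM_mul (a b : N4) : toM (mul a b) = toM a * toM b := by
  unfold toM mul
  rw [fromBlocks_multiply, two_mul_add, two_mul_add, two_mul_add, two_mul_add]
  simp only [ZMod.natCast_mod, Nat.cast_add, Nat.cast_mul, add_assoc]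

lemma toM_neg (a : N4) (h : a.a00 ≤ 7 ∧ a.a01 ≤ 7 ∧ a.a02 ≤ 7 ∧ a.a03 ≤ 7 ∧ a.a10 ≤ 7 ∧ a.a11 ≤ 7 ∧ a.a12 ≤ 7 ∧
    a.a13 ≤ 7 ∧ a.a20 ≤ 7 ∧ a.a21 ≤ 7 ∧ a.a22 ≤ 7 ∧ a.a23 ≤ 7 ∧ a.a30 ≤ 7 ∧ a.a31 ≤ 7 ∧ a.a32 ≤ 7 ∧ a.a33 ≤ 7) :
    toM (neg a) = - toM a := by
  have e : ∀ n : ℕ, n ≤ 7 → ((7 - n : ℕ) : ZMod 7) = - n := by
    intro n hn
    rw [Nat.cast_sub hn]
    have : ((7 : ℕ) : ZMod 7) = 0 := rfl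
    rw [this, zero_sub]
  obtain ⟨h00, h01, h02, h03, h10, h11, h12, h13, h20, h21, h22, h23, h30, h31, h32, h33⟩ := h
  unfold toM neg
  simp only [ZMod.natCast_mod, e _ h00, e _ h01, e _ h02, e _ h03, e _ h10, e _ h11, e _ h12, e _ h13, e _ h20,
    e _ h21, e _ h22, e _ h23, e _ h30, e _ h31, e _ h32, e _ h33, Matrix.fromBlocks_neg, Matrix.neg_of,
    Matrix.neg_cons, Matrix.neg_empty]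

def nX : N4 := ⟨1, 4, 6, 1, 0, 1, 1, 0, 0, 0, 1, 0, 0, 1, 4, 1⟩
def nXi : N4 := ⟨1, 4, 1, 6, 0, 1, 6, 0, 0, 0, 1, 0, 0, 6, 4, 1⟩
def nW : N4 := ⟨0, 0, 6, 0, 0, 0, 0, 2, 1, 0, 0, 0, 0, 3, 0, 0⟩
def nWi : N4 := ⟨0, 0, 1, 0, 0, 0, 0, 5, 6, 0, 0, 0, 0, 4, 0, 0⟩
def nY : N4 := ⟨0, 0, 3, 4, 0, 0, 3, 5, 3, 1, 6, 4, 6, 6, 6, 0⟩
def nYi : N4 := ⟨6, 6, 4, 4, 4, 0, 3, 2, 4, 1, 0, 0, 6, 1, 0, 0⟩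
def nT : N4 := ⟨1, 0, 1, 0, 0, 1, 0, 0, 0, 0, 1, 0, 0, 0, 0, 1⟩
def nTi : N4 := ⟨1, 0, 6, 0, 0, 1, 0, 0, 0, 0, 1, 0, 0, 0, 0, 1⟩

/-- representatives of the 21 lines -/
def L : List N4 := [
  ⟨0, 1, 0, 3, 1, 0, 4, 0, 0, 4, 0, 1, 3, 0, 1, 0⟩,
  ⟨0, 1, 0, 4, 2, 0, 3, 0, 0, 5, 0, 2, 2, 0, 1, 0⟩,
  ⟨0, 2, 0, 2, 1, 0, 5, 0, 0, 3, 0, 1, 4, 0, 2, 0⟩,
  ⟨0, 2, 0, 5, 4, 0, 2, 0, 0, 1, 0, 4, 6, 0, 2, 0⟩,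
  ⟨0, 3, 0, 1, 5, 0, 6, 0, 0, 5, 0, 5, 2, 0, 3, 0⟩,
  ⟨0, 3, 0, 6, 3, 0, 1, 0, 0, 1, 0, 3, 6, 0, 3, 0⟩,
  ⟨1, 1, 0, 0, 2, 6, 0, 0, 0, 1, 1, 2, 6, 0, 1, 6⟩,
  ⟨1, 2, 0, 0, 1, 6, 0, 0, 0, 2, 1, 1, 5, 0, 2, 6⟩,
  ⟨1, 3, 0, 3, 2, 6, 4, 0, 0, 6, 1, 2, 1, 0, 3, 6⟩,
  ⟨1, 3, 0, 4, 3, 6, 3, 0, 0, 0, 1, 3, 0, 0, 3, 6⟩,
  ⟨1, 4, 0, 0, 4, 6, 0, 0, 0, 4, 1, 4, 3, 0, 4, 6⟩,
  ⟨1, 5, 0, 1, 6, 6, 6, 0, 0, 0, 1, 6, 0, 0, 5, 6⟩,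
  ⟨1, 5, 0, 6, 4, 6, 1, 0, 0, 3, 1, 4, 4, 0, 5, 6⟩,
  ⟨1, 6, 0, 2, 5, 6, 5, 0, 0, 0, 1, 5, 0, 0, 6, 6⟩,
  ⟨1, 6, 0, 5, 1, 6, 2, 0, 0, 5, 1, 1, 2, 0, 6, 6⟩,
  ⟨3, 3, 0, 2, 1, 4, 5, 0, 0, 1, 3, 1, 6, 0, 3, 4⟩,
  ⟨3, 3, 0, 5, 4, 4, 2, 0, 0, 5, 3, 4, 2, 0, 3, 4⟩,
  ⟨3, 5, 0, 3, 1, 4, 4, 0, 0, 6, 3, 1, 1, 0, 5, 4⟩,
  ⟨3, 5, 0, 4, 2, 4, 3, 0, 0, 4, 3, 2, 3, 0, 5, 4⟩,
  ⟨3, 6, 0, 1, 4, 4, 6, 0, 0, 2, 3, 4, 5, 0, 6, 4⟩,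
  ⟨3, 6, 0, 6, 2, 4, 1, 0, 0, 3, 3, 2, 4, 0, 6, 4⟩]

def KX : List N4 := [
  ⟨0, 2, 0, 2, 1, 0, 5, 0, 0, 3, 0, 1, 4, 0, 2, 0⟩,
  ⟨3, 6, 0, 6, 2, 4, 1, 0, 0, 3, 3, 2, 4, 0, 6, 4⟩,
  ⟨1, 2, 0, 0, 1, 6, 0, 0, 0, 2, 1, 1, 5, 0, 2, 6⟩,
  ⟨1, 4, 0, 0, 4, 6, 0, 0, 0, 4, 1, 4, 3, 0, 4, 6⟩,
  ⟨1, 6, 0, 2, 5, 6, 5, 0, 0, 0, 1, 5, 0, 0, 6, 6⟩,
  ⟨4, 1, 0, 6, 3, 3, 1, 0, 0, 5, 4, 3, 2, 0, 1, 3⟩,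
  ⟨1, 3, 0, 3, 2, 6, 4, 0, 0, 6, 1, 2, 1, 0, 3, 6⟩,
  ⟨3, 3, 0, 2, 1, 4, 5, 0, 0, 1, 3, 1, 6, 0, 3, 4⟩,
  ⟨3, 5, 0, 4, 2, 4, 3, 0, 0, 4, 3, 2, 3, 0, 5, 4⟩,
  ⟨6, 2, 0, 1, 3, 1, 6, 0, 0, 4, 6, 3, 3, 0, 2, 1⟩,
  ⟨6, 4, 0, 3, 4, 1, 4, 0, 0, 0, 6, 4, 0, 0, 4, 1⟩,
  ⟨4, 2, 0, 4, 6, 3, 3, 0, 0, 1, 4, 6, 6, 0, 2, 3⟩,
  ⟨0, 4, 0, 1, 4, 0, 6, 0, 0, 6, 0, 4, 1, 0, 4, 0⟩,
  ⟨0, 6, 0, 3, 5, 0, 4, 0, 0, 2, 0, 5, 5, 0, 6, 0⟩,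
  ⟨0, 1, 0, 3, 1, 0, 4, 0, 0, 4, 0, 1, 3, 0, 1, 0⟩,
  ⟨6, 2, 0, 6, 1, 1, 1, 0, 0, 0, 6, 1, 0, 0, 2, 1⟩,
  ⟨0, 2, 0, 5, 4, 0, 2, 0, 0, 1, 0, 4, 6, 0, 2, 0⟩,
  ⟨1, 6, 0, 5, 1, 6, 2, 0, 0, 5, 1, 1, 2, 0, 6, 6⟩,
  ⟨0, 4, 0, 6, 2, 0, 1, 0, 0, 2, 0, 2, 5, 0, 4, 0⟩,
  ⟨3, 3, 0, 5, 4, 4, 2, 0, 0, 5, 3, 4, 2, 0, 3, 4⟩,
  ⟨1, 1, 0, 0, 2, 6, 0, 0, 0, 1, 1, 2, 6, 0, 1, 6⟩]

def KW : List N4 := [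
  ⟨0, 3, 0, 1, 5, 0, 6, 0, 0, 5, 0, 5, 2, 0, 3, 0⟩,
  ⟨0, 6, 0, 3, 5, 0, 4, 0, 0, 2, 0, 5, 5, 0, 6, 0⟩,
  ⟨0, 3, 0, 6, 3, 0, 1, 0, 0, 1, 0, 3, 6, 0, 3, 0⟩,
  ⟨0, 5, 0, 2, 3, 0, 5, 0, 0, 6, 0, 3, 1, 0, 5, 0⟩,
  ⟨0, 1, 0, 3, 1, 0, 4, 0, 0, 4, 0, 1, 3, 0, 1, 0⟩,
  ⟨0, 2, 0, 2, 1, 0, 5, 0, 0, 3, 0, 1, 4, 0, 2, 0⟩,
  ⟨1, 6, 0, 2, 5, 6, 5, 0, 0, 0, 1, 5, 0, 0, 6, 6⟩,
  ⟨1, 3, 0, 4, 3, 6, 3, 0, 0, 0, 1, 3, 0, 0, 3, 6⟩,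
  ⟨1, 6, 0, 5, 1, 6, 2, 0, 0, 5, 1, 1, 2, 0, 6, 6⟩,
  ⟨1, 2, 0, 0, 1, 6, 0, 0, 0, 2, 1, 1, 5, 0, 2, 6⟩,
  ⟨1, 5, 0, 1, 6, 6, 6, 0, 0, 0, 1, 6, 0, 0, 5, 6⟩,
  ⟨1, 4, 0, 0, 4, 6, 0, 0, 0, 4, 1, 4, 3, 0, 4, 6⟩,
  ⟨1, 5, 0, 6, 4, 6, 1, 0, 0, 3, 1, 4, 4, 0, 5, 6⟩,
  ⟨1, 1, 0, 0, 2, 6, 0, 0, 0, 1, 1, 2, 6, 0, 1, 6⟩,
  ⟨1, 3, 0, 3, 2, 6, 4, 0, 0, 6, 1, 2, 1, 0, 3, 6⟩,
  ⟨3, 3, 0, 2, 1, 4, 5, 0, 0, 1, 3, 1, 6, 0, 3, 4⟩,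
  ⟨3, 5, 0, 3, 1, 4, 4, 0, 0, 6, 3, 1, 1, 0, 5, 4⟩,
  ⟨3, 3, 0, 5, 4, 4, 2, 0, 0, 5, 3, 4, 2, 0, 3, 4⟩,
  ⟨3, 6, 0, 1, 4, 4, 6, 0, 0, 2, 3, 4, 5, 0, 6, 4⟩,
  ⟨3, 5, 0, 4, 2, 4, 3, 0, 0, 4, 3, 2, 3, 0, 5, 4⟩,
  ⟨3, 6, 0, 6, 2, 4, 1, 0, 0, 3, 3, 2, 4, 0, 6, 4⟩]

def KY : List N4 := [
  ⟨0, 2, 0, 2, 1, 0, 5, 0, 0, 3, 0, 1, 4, 0, 2, 0⟩,
  ⟨6, 2, 0, 6, 1, 1, 1, 0, 0, 0, 6, 1, 0, 0, 2, 1⟩,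
  ⟨0, 2, 0, 5, 4, 0, 2, 0, 0, 1, 0, 4, 6, 0, 2, 0⟩,
  ⟨1, 3, 0, 4, 3, 6, 3, 0, 0, 0, 1, 3, 0, 0, 3, 6⟩,
  ⟨1, 5, 0, 6, 4, 6, 1, 0, 0, 3, 1, 4, 4, 0, 5, 6⟩,
  ⟨6, 4, 0, 4, 5, 1, 3, 0, 0, 1, 6, 5, 6, 0, 4, 1⟩,
  ⟨0, 6, 0, 4, 6, 0, 3, 0, 0, 3, 0, 6, 4, 0, 6, 0⟩,
  ⟨0, 4, 0, 1, 4, 0, 6, 0, 0, 6, 0, 4, 1, 0, 4, 0⟩,
  ⟨0, 6, 0, 3, 5, 0, 4, 0, 0, 2, 0, 5, 5, 0, 6, 0⟩,
  ⟨6, 6, 0, 0, 5, 1, 0, 0, 0, 6, 6, 5, 1, 0, 6, 1⟩,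
  ⟨6, 1, 0, 2, 6, 1, 5, 0, 0, 2, 6, 6, 5, 0, 1, 1⟩,
  ⟨1, 2, 0, 0, 1, 6, 0, 0, 0, 2, 1, 1, 5, 0, 2, 6⟩,
  ⟨6, 1, 0, 5, 2, 1, 2, 0, 0, 0, 6, 2, 0, 0, 1, 1⟩,
  ⟨6, 3, 0, 0, 3, 1, 0, 0, 0, 3, 6, 3, 4, 0, 3, 1⟩,
  ⟨0, 4, 0, 6, 2, 0, 1, 0, 0, 2, 0, 2, 5, 0, 4, 0⟩,
  ⟨4, 2, 0, 4, 6, 3, 3, 0, 0, 1, 4, 6, 6, 0, 2, 3⟩,
  ⟨3, 6, 0, 6, 2, 4, 1, 0, 0, 3, 3, 2, 4, 0, 6, 4⟩,
  ⟨4, 2, 0, 3, 5, 3, 4, 0, 0, 3, 4, 5, 4, 0, 2, 3⟩,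
  ⟨4, 4, 0, 2, 3, 3, 5, 0, 0, 2, 4, 3, 5, 0, 4, 3⟩,
  ⟨3, 6, 0, 1, 4, 4, 6, 0, 0, 2, 3, 4, 5, 0, 6, 4⟩,
  ⟨4, 4, 0, 5, 6, 3, 2, 0, 0, 6, 4, 6, 1, 0, 4, 3⟩]

/-- a check -/
def chk (A : N4) (K : List N4) : Prop := ∀ q ∈ L.zip K, mul A q.1 = mul q.2 A ∧ (q.2 ∈ L ∨ neg q.2 ∈ L)

instance (A : N4) (K : List N4) : Decidable (chk A K) := by unfold chk; infer_instance

lemma chkX : chk nX KX := by decide +kernel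
lemma chkW : chk nW KW := by decide +kernel
lemma chkY : chk nY KY := by decide +kernel
lemma lenX : L.length = KX.length := by decide
lemma lenW : L.length = KW.length := by decide
lemma lenY : L.length = KY.length := by decide


def nOne : N4 := ⟨1, 0, 0, 0, 0, 1, 0, 0, 0, 0, 1, 0, 0, 0, 0, 1⟩

lemma toM_nOne : toM nOne = 1 := by decide +kernel

def X0 : GL I4 (ZMod 7) := ⟨toM nX, toM nXi,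
  by rw [← toM_mul, ← toM_nOne]; congr 1, by rw [← toM_mul, ← toM_nOne]; congr 1⟩
def W0 : GL I4 (ZMod 7) := ⟨toM nW, toM nWi,
  by rw [← toM_mul, ← toM_nOne]; congr 1, by rw [← toM_mul, ← toM_nOne]; congr 1⟩
def Y0 : GL I4 (ZMod 7) := ⟨toM nY, toM nYi,
  by rw [← toM_mul, ← toM_nOne]; congr 1, by rw [← toM_mul, ← toM_nOne]; congr 1⟩
def T0 : GL I4 (ZMod 7) := ⟨toM nT, toM nTi,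
  by rw [← toM_mul, ← toM_nOne]; congr 1, by rw [← toM_mul, ← toM_nOne]; congr 1⟩

/-- the set of 42 matrices -/
def RS : Set M4 := {M | ∃ n ∈ L, M = toM n ∨ M = - toM n}

lemma RS_neg {M : M4} (h : M ∈ RS) : -M ∈ RS := by
  obtain ⟨n, hn, rfl | rfl⟩ := h
  · exact ⟨n, hn, Or.inr rfl⟩
  · exact ⟨n, hn, Or.inl (neg_neg _)⟩

/-- bounded entries -/
def Bd (a : N4) : Prop := a.a00 ≤ 7 ∧ a.a01 ≤ 7 ∧ a.a02 ≤ 7 ∧ a.a03 ≤ 7 ∧ a.a10 ≤ 7 ∧ a.a11 ≤ 7 ∧ a.a12 ≤ 7 ∧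
    a.a13 ≤ 7 ∧ a.a20 ≤ 7 ∧ a.a21 ≤ 7 ∧ a.a22 ≤ 7 ∧ a.a23 ≤ 7 ∧ a.a30 ≤ 7 ∧ a.a31 ≤ 7 ∧ a.a32 ≤ 7 ∧ a.a33 ≤ 7

instance (a : N4) : Decidable (Bd a) := by unfold Bd; infer_instance

lemma bdX : ∀ a ∈ KX, Bd a := by decide +kernel
lemma bdW : ∀ a ∈ KW, Bd a := by decide +kernel
lemma bdY : ∀ a ∈ KY, Bd a := by decide +kernel

lemma maps {A : GL I4 (ZMod 7)} {nA : N4} {K : List N4} (hA : (A : M4) = toM nA) (hlen : L.length = K.length)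
    (hb : ∀ a ∈ K, Bd a) (hc : chk nA K) : ∀ M ∈ RS, (A : M4) * M * (A⁻¹ : GL I4 (ZMod 7)) ∈ RS := by
  have h1 : ∀ n ∈ L, (A : M4) * toM n * (A⁻¹ : GL I4 (ZMod 7)) ∈ RS := by
    intro n hn
    obtain ⟨i, hi, rfl⟩ := List.getElem_of_mem hn
    have hi' : i < K.length := hlen ▸ hi
    have hz : (L[i], K[i]) ∈ L.zip K := by
      have h2 : i < (L.zip K).length := by rw [List.length_zip]; omega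
      have h3 : (L.zip K)[i] = (L[i], K[i]) := List.getElem_zip
      rw [← h3]; exact List.getElem_mem h2
    obtain ⟨h2, h3⟩ := hc _ hz
    have h4 : (A : M4) * toM L[i] = toM K[i] * A := by
      rw [hA, ← toM_mul, ← toM_mul]; exact congrArg toM h2
    have h5 : (A : M4) * toM L[i] * (A⁻¹ : GL I4 (ZMod 7)) = toM K[i] := by
      rw [h4, mul_assoc, ← Units.val_mul, mul_inv_cancel, Units.val_one, mul_one]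
    rw [h5]
    rcases h3 with h3 | h3
    · exact ⟨_, h3, Or.inl rfl⟩
    · refine ⟨_, h3, Or.inr ?_⟩
      rw [toM_neg _ (hb _ (List.getElem_mem hi')), neg_neg]
  rintro M ⟨n, hn, rfl | rfl⟩
  · exact h1 n hn
  · rw [mul_neg, neg_mul]; exact RS_neg (h1 n hn)

lemma maps_inv {A : GL I4 (ZMod 7)} (h : ∀ M ∈ RS, (A : M4) * M * (A⁻¹ : GL I4 (ZMod 7)) ∈ RS) :
    ∀ M ∈ RS, ((A⁻¹ : GL I4 (ZMod 7)) : M4) * M * A ∈ RS := by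
  have hinj : Function.Injective (fun M : RS => (⟨(A : M4) * M * (A⁻¹ : GL I4 (ZMod 7)), h M.1 M.2⟩ : RS)) := by
    intro M M' hM
    have h1 := congrArg Subtype.val hM
    have h2 : ∀ N : M4, ((A⁻¹ : GL I4 (ZMod 7)) : M4) * ((A : M4) * N * (A⁻¹ : GL I4 (ZMod 7))) * A = N := by
      intro N
      simp only [mul_assoc]
      rw [← Units.val_mul, inv_mul_cancel, Units.val_one, mul_one, ← mul_assoc, ← Units.val_mul, inv_mul_cancel,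
        Units.val_one, one_mul]
    apply Subtype.ext
    rw [← h2 M.1, ← h2 M'.1]
    exact congrArg (fun N => ((A⁻¹ : GL I4 (ZMod 7)) : M4) * N * A) h1
  have hsurj := Finite.surjective_of_injective hinj
  intro M hM
  obtain ⟨M', hM'⟩ := hsurj ⟨M, hM⟩
  have h1 : (A : M4) * M' * (A⁻¹ : GL I4 (ZMod 7)) = M := congrArg Subtype.val hM'
  have h2 : ((A⁻¹ : GL I4 (ZMod 7)) : M4) * M * A = M' := by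
    rw [← h1]
    simp only [mul_assoc]
    rw [← Units.val_mul, inv_mul_cancel, Units.val_one, mul_one, ← mul_assoc, ← Units.val_mul, inv_mul_cancel,
        Units.val_one, one_mul]
  rw [h2]; exact M'.2

/-- the stabiliser of `RS` -/
def L0 : Subgroup (GL I4 (ZMod 7)) where
  carrier := {A | A ∈ spGL 2 (ZMod 7) ∧ (∀ M ∈ RS, (A : M4) * M * (A⁻¹ : GL I4 (ZMod 7)) ∈ RS) ∧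
    ∀ M ∈ RS, ((A⁻¹ : GL I4 (ZMod 7)) : M4) * M * A ∈ RS}
  one_mem' := ⟨one_mem _, fun M hM => by simpa using hM, fun M hM => by simpa using hM⟩
  mul_mem' := by
    rintro A B ⟨hA, hA1, hA2⟩ ⟨hB, hB1, hB2⟩
    refine ⟨mul_mem hA hB, fun M hM => ?_, fun M hM => ?_⟩
    · have := hA1 _ (hB1 M hM)
      simpa [mul_assoc] using this
    · have := hB2 _ (hA2 M hM)
      simpa [mul_assoc] using this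
  inv_mem' := by
    rintro A ⟨hA, hA1, hA2⟩
    exact ⟨inv_mem hA, fun M hM => by simpa using hA2 M hM, fun M hM => by simpa using hA1 M hM⟩

lemma X0_sp : X0 ∈ spGL 2 (ZMod 7) := by
  rw [Cfsg.Agent.H909.mem_spGL_iff_transpose]
  decide +kernel

lemma W0_sp : W0 ∈ spGL 2 (ZMod 7) := by
  rw [Cfsg.Agent.H909.mem_spGL_iff_transpose]
  decide +kernel

lemma Y0_sp : Y0 ∈ spGL 2 (ZMod 7) := by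
  rw [Cfsg.Agent.H909.mem_spGL_iff_transpose]
  decide +kernel

lemma T0_sp : T0 ∈ spGL 2 (ZMod 7) := by
  rw [Cfsg.Agent.H909.mem_spGL_iff_transpose]
  decide +kernel

lemma X0_mem : X0 ∈ L0 := ⟨X0_sp, maps rfl lenX bdX chkX, maps_inv (maps rfl lenX bdX chkX)⟩
lemma W0_mem : W0 ∈ L0 := ⟨W0_sp, maps rfl lenW bdW chkW, maps_inv (maps rfl lenW bdW chkW)⟩
lemma Y0_mem : Y0 ∈ L0 := ⟨Y0_sp, maps rfl lenY bdY chkY, maps_inv (maps rfl lenY bdY chkY)⟩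

lemma T0_aux : ∀ n ∈ L, toM (mul (mul nT (L.headD nX)) nTi) ≠ toM n ∧
    toM (mul (mul nT (L.headD nX)) nTi) ≠ - toM n := by decide +kernel

lemma T0_not_mem : T0 ∉ L0 := by
  intro h
  have h1 : toM (L.headD nX) ∈ RS := ⟨_, by decide, Or.inl rfl⟩
  have h2 := h.2.1 _ h1
  have h3 : (T0 : M4) * toM (L.headD nX) * (T0⁻¹ : GL I4 (ZMod 7)) = toM (mul (mul nT (L.headD nX)) nTi) := by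
    rw [toM_mul, toM_mul]; rfl
  rw [h3] at h2
  obtain ⟨n, hn, h4⟩ := h2
  rcases h4 with h4 | h4
  · exact (T0_aux n hn).1 h4
  · exact (T0_aux n hn).2 h4

lemma Y0_five : Y0 ^ 5 = 1 := by
  apply Units.ext
  have h1 : mul (mul (mul (mul nY nY) nY) nY) nY = nOne := by decide +kernel
  have h2 := congrArg toM h1
  rw [toM_mul, toM_mul, toM_mul, toM_mul, toM_nOne] at h2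
  rw [Units.val_pow_eq_pow_val, Units.val_one, ← h2]
  have h3 : ((Y0 : GL I4 (ZMod 7)) : M4) = toM nY := rfl
  rw [h3]
  simp only [pow_succ, pow_zero, one_mul]

lemma Y0_ne : Y0 ≠ 1 := by
  intro h
  have h1 : toM nY = 1 := congrArg Units.val h
  exact absurd h1 (by decide +kernel)

end Cfsg.Agent.H462.LSevenFin
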