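import Mathlib

/-!
# Symplectic linear algebra for `SL(2,7)` in dimension four (helper462, task 46)
-/

set_option autoImplicit false

namespace Cfsg.Agent.H462.LSevenLin

open Module

variable {F : Type*} [Field F] {V : Type*} [AddCommGroup V] [Module F V]

/-- the setting -/
structure Setup (B : LinearMap.BilinForm F V) (x w t : End F V) : Prop where
  seven : (7 : F) = 0
  dim : finrank F V = 4
  alt : ∀ v, B v v = 0
  nondeg : ∀ v, (∀ u, B u v = 0) → v = 0
  Bx : ∀ u v, B (x u) (x v) = B u v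
  Bw : ∀ u v, B (w u) (w v) = B u v
  Bt : ∀ u v, B (t u) (t v) = B u v
  x7 : x ^ 7 = 1
  w2 : w * w = -1
  xw3 : (x * w) ^ 3 = 1
  t3 : t ^ 3 = 1
  tx : t * x = x ^ 2 * t
  wt : w * t = t ^ 2 * w
  irred : ∀ S : Submodule F V, (∀ v ∈ S, x v ∈ S) → (∀ v ∈ S, w v ∈ S) → S = ⊥ ∨ S = ⊤

namespace Setup

variable {B : LinearMap.BilinForm F V} {x w t : End F V}

lemma finDim (h : Setup B x w t) : FiniteDimensional F V :=
  FiniteDimensional.of_finrank_pos (by rw [h.dim]; norm_num)

lemma ww (h : Setup B x w t) (v : V) : w (w v) = -v := by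
  have := congrArg (fun a : End F V => a v) h.w2
  simpa using this

lemma xwxw (h : Setup B x w t) (v : V) : x (w (x (w (x (w v))))) = v := by
  have := congrArg (fun a : End F V => a v) h.xw3
  simpa [pow_succ] using this

lemma x_inj (h : Setup B x w t) : Function.Injective x := by
  intro u v huv
  have h1 : ∀ v, (x ^ 6) (x v) = v := by
    intro v
    have := congrArg (fun a : End F V => a v) h.x7
    rw [pow_succ] at this
    simpa using this
  rw [← h1 u, huv, h1]

lemma w_inj (h : Setup B x w t) : Function.Injective w := by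
  intro u v huv
  have h1 : -u = -v := by rw [← h.ww u, huv, h.ww]
  exact neg_injective h1

/-- the fixed space of `x` meets its image under `w` trivially -/
lemma fix_disj (h : Setup B x w t) {v : V} (hv : x v = v) (hwv : x (w v) = w v) : v = 0 := by
  have := h.finDim
  have h1 : Submodule.span F {v, w v} = ⊥ ∨ Submodule.span F {v, w v} = ⊤ := by
    apply h.irred
    · intro u hu
      obtain ⟨a, b, rfl⟩ := Submodule.mem_span_pair.1 hu
      rw [map_add, map_smul, map_smul, hv, hwv]
      exact hu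
    · intro u hu
      obtain ⟨a, b, rfl⟩ := Submodule.mem_span_pair.1 hu
      rw [map_add, map_smul, map_smul, h.ww]
      exact Submodule.mem_span_pair.2 ⟨-b, a, by rw [smul_neg, neg_smul]; abel⟩
  rcases h1 with h1 | h1
  · exact Submodule.span_eq_bot.1 h1 v (Or.inl rfl)
  · exfalso
    have h2 : finrank F (Submodule.span F {v, w v}) ≤ 2 := by
      classical
      have h3 : ({v, w v} : Set V) = ((({v, w v} : Finset V)) : Set V) := by simp
      rw [h3]
      exact (finrank_span_finset_le_card _).trans Finset.card_le_two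
    rw [h1, finrank_top, h.dim] at h2
    omega

/-- no invariant plane `⟨v, w v⟩` -/
lemma no_plane (h : Setup B x w t) {v : V} (hv : x v = v) (hwv : x (w v) = w v - v) : v = 0 := by
  have := h.finDim
  have h1 : Submodule.span F {v, w v} = ⊥ ∨ Submodule.span F {v, w v} = ⊤ := by
    apply h.irred
    · intro u hu
      obtain ⟨a, b, rfl⟩ := Submodule.mem_span_pair.1 hu
      rw [map_add, map_smul, map_smul, hv, hwv]
      exact Submodule.mem_span_pair.2 ⟨a - b, b, by rw [smul_sub, sub_smul]; abel⟩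
    · intro u hu
      obtain ⟨a, b, rfl⟩ := Submodule.mem_span_pair.1 hu
      rw [map_add, map_smul, map_smul, h.ww]
      exact Submodule.mem_span_pair.2 ⟨-b, a, by rw [smul_neg, neg_smul]; abel⟩
  rcases h1 with h1 | h1
  · exact Submodule.span_eq_bot.1 h1 v (Or.inl rfl)
  · exfalso
    have h2 : finrank F (Submodule.span F {v, w v}) ≤ 2 := by
      classical
      have h3 : ({v, w v} : Set V) = ((({v, w v} : Finset V)) : Set V) := by simp
      rw [h3]
      exact (finrank_span_finset_le_card _).trans Finset.card_le_two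
    rw [h1, finrank_top, h.dim] at h2
    omega


lemma fix_eq (h : Setup B x w t) {a b : V} (ha : x a = a) (hb : x b = b) (hab : w a = b) : a = 0 ∧ b = 0 := by
  have h1 : a = 0 := h.fix_disj ha (by rw [hab, hb])
  exact ⟨h1, by rw [← hab, h1, map_zero]⟩

/-- the relation between `v`, `a`, `b` in the fixed space -/
def Pr (x w : End F V) (v a b : V) : Prop :=
  x v = v ∧ x a = a ∧ x b = b ∧ x (a + w b) = w v ∧ x (w v) = w a - b

lemma Pr.mk' (h : Setup B x w t) {v a b : V} (hv : x v = v) (ha : x a = a) (hb : x b = b)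
    (hab : x (a + w b) = w v) : Pr x w v a b := by
  refine ⟨hv, ha, hb, hab, ?_⟩
  have h1 : x (w (x (w v))) = - w v := by
    have h2 := h.xwxw (-(w v))
    rw [map_neg, h.ww, neg_neg, hv] at h2
    exact h2
  rw [← hab, ← map_neg] at h1
  have h2 := h.x_inj h1
  have h3 := congrArg w h2
  rw [hab] at h3
  rw [h.ww, map_neg, map_add, h.ww] at h3
  have h4 := neg_injective h3
  rw [h4]; abel

lemma Pr.rot (h : Setup B x w t) (hK : ∀ y, ∃ a b, x a = a ∧ x b = b ∧ y = a + w b) {v a b : V}
    (hp : Pr x w v a b) : Pr x w a b v := by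
  obtain ⟨hv, ha, hb, h1, h2⟩ := hp
  obtain ⟨a', b', ha', hb', h3⟩ := hK ((x ^ 6) (w a))
  have h4 : x (a' + w b') = w a := by
    rw [← h3]
    have := congrArg (fun c : End F V => c (w a)) h.x7
    rw [pow_succ'] at this
    exact this
  have h5 : x (w v) = x (a' + w b' - b) := by
    rw [h2, map_sub, h4, hb]
  have h6 := h.x_inj h5
  have h7 : w (v - b') = a' - b := by
    rw [map_sub, h6]; abel
  have h8 := h.fix_eq (a := v - b') (b := a' - b) (by rw [map_sub, hv, hb']) (by rw [map_sub, ha', hb]) h7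
  have h9 : b' = v := (sub_eq_zero.1 h8.1).symm
  have h10 : a' = b := sub_eq_zero.1 h8.2
  rw [h9, h10] at h4
  exact Pr.mk' h ha hb hv h4

lemma Pr.eq (h : Setup B x w t) (hK : ∀ y, ∃ a b, x a = a ∧ x b = b ∧ y = a + w b) {v a b : V}
    (hp : Pr x w v a b) : v = a := by
  have hq := hp.rot h hK
  have hr := hq.rot h hK
  obtain ⟨hv, ha, hb, -, e1⟩ := hp
  have e2 := hq.2.2.2.2
  have e3 := hr.2.2.2.2
  have h3 : ∀ y, x (x (x (y + w v))) = x (x (x y)) + w v - (v + a + b) := by
    intro y
    simp only [map_add, map_sub, e1, e2, e3, hv, hb]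
    abel
  have h7 := congrArg (fun c : End F V => c (w v)) h.x7
  have h8 : x (x (x (x (x (x (x (w v))))))) = w v := by simpa [pow_succ] using h7
  have h9 : x (x (x (w v))) = w v - (v + a + b) := by
    have := h3 0
    simpa using this
  have hs : x (v + a + b) = v + a + b := by rw [map_add, map_add, hv, ha, hb]
  have h10 : x (x (x (x (x (x (w v)))))) = w v - (v + a + b) - (v + a + b) := by
    rw [h9, map_sub, map_sub, map_sub, h9, hs, hs, hs]
  rw [h10, map_sub, map_sub, hs, e1] at h8
  have h11 : w (v - a) = - (b + (v + a + b) + (v + a + b)) := by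
    rw [map_sub]
    nth_rewrite 1 [← h8]
    abel
  have h12 := h.fix_eq (a := v - a) (b := - (b + (v + a + b) + (v + a + b)))
    (by rw [map_sub, hv, ha]) (by rw [map_neg, map_add, map_add, hs, hb]) h11
  exact sub_eq_zero.1 h12.1

/-- the fixed space of `x` has dimension at most one -/
theorem finrank_ker_le (h : Setup B x w t) : finrank F (LinearMap.ker (x - 1)) ≤ 1 := by
  have := h.finDim
  by_contra hcon
  push Not at hcon
  set K := LinearMap.ker (x - 1) with hKdef
  have hmem : ∀ v, v ∈ K ↔ x v = v := by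
    intro v
    rw [hKdef, LinearMap.mem_ker, LinearMap.sub_apply, sub_eq_zero]
    rfl
  have hdisj : K ⊓ K.map w = ⊥ := by
    rw [Submodule.eq_bot_iff]
    rintro v ⟨hv, u, hu, rfl⟩
    have hu := (hmem u).1 hu
    have hv := (hmem _).1 hv
    rw [h.fix_disj hu hv, map_zero]
  have hfr : finrank F (K.map w) = finrank F K := by
    exact (LinearEquiv.finrank_eq (Submodule.equivMapOfInjective w h.w_inj K)).symm
  have hsup : K ⊔ K.map w = ⊤ := by
    apply Submodule.eq_top_of_finrank_eq
    have h1 := Submodule.finrank_sup_add_finrank_inf_eq K (K.map w)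
    rw [hdisj, finrank_bot, hfr] at h1
    have h2 : finrank F (K ⊔ K.map w : Submodule F V) ≤ finrank F V := Submodule.finrank_le _
    rw [h.dim] at h2 ⊢
    omega
  have hK : ∀ y, ∃ a b, x a = a ∧ x b = b ∧ y = a + w b := by
    intro y
    have hy : y ∈ K ⊔ K.map w := by rw [hsup]; exact Submodule.mem_top
    obtain ⟨a, ha, c, ⟨b, hb, rfl⟩, rfl⟩ := Submodule.mem_sup.1 hy
    exact ⟨a, b, (hmem a).1 ha, (hmem b).1 hb, rfl⟩
  obtain ⟨v, hvK, hv0⟩ : ∃ v ∈ K, v ≠ 0 := by
    by_contra hall
    push Not at hall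
    have : K = ⊥ := (Submodule.eq_bot_iff _).2 hall
    rw [this, finrank_bot] at hcon
    omega
  have hv := (hmem v).1 hvK
  obtain ⟨a, b, ha, hb, h3⟩ := hK ((x ^ 6) (w v))
  have h4 : x (a + w b) = w v := by
    rw [← h3]
    have := congrArg (fun c : End F V => c (w v)) h.x7
    rw [pow_succ'] at this
    exact this
  have hp := Pr.mk' h hv ha hb h4
  have e1 := hp.eq h hK
  have e2 := (hp.rot h hK).eq h hK
  have e3 := hp.2.2.2.2
  rw [← e2, ← e1] at e3
  exact hv0 (h.no_plane hv e3)


lemma seven_end (h : Setup B x w t) : (7 : End F V) = 0 := by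
  have h1 : (7 : End F V) = algebraMap F (End F V) 7 := by rw [map_ofNat]
  rw [h1, h.seven, map_zero]

lemma N4 (h : Setup B x w t) : (x - 1) ^ 4 = 0 := by
  have := h.finDim
  have h7 : (x - 1) ^ 7 = 0 := by
    have e : (x - 1) ^ 7 = x ^ 7 - 1 - 7 * (x ^ 6 - 3 * x ^ 5 + 5 * x ^ 4 - 5 * x ^ 3 + 3 * x ^ 2 - x) := by
      noncomm_ring
    rw [e, h.x7, h.seven_end, zero_mul, sub_self, sub_zero]
  have h1 : IsNilpotent (x - 1) := ⟨7, h7⟩
  have h2 := (LinearMap.isNilpotent_iff_charpoly _).1 h1
  have h3 := LinearMap.aeval_self_charpoly (x - 1)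
  rw [h2, map_pow, Polynomial.aeval_X, h.dim] at h3
  exact h3

lemma N3 (h : Setup B x w t) : (x - 1) ^ 3 ≠ 0 := by
  have := h.finDim
  intro h3
  set N := x - 1 with hN
  have hk := h.finrank_ker_le
  rw [← hN] at hk
  have h1 := LinearMap.finrank_range_add_finrank_ker N
  rw [h.dim] at h1
  have h2 := LinearMap.finrank_range_add_finrank_ker (N.domRestrict (LinearMap.range N))
  have h4 : finrank F (LinearMap.range (N.domRestrict (LinearMap.range N))) ≤ finrank F (LinearMap.ker N) := by
    apply Submodule.finrank_mono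
    rintro _ ⟨⟨_, u, rfl⟩, rfl⟩
    rw [LinearMap.mem_ker]
    have := congrArg (fun a : End F V => a u) h3
    simpa [pow_succ] using this
  have h5 : finrank F (LinearMap.ker (N.domRestrict (LinearMap.range N))) ≤ finrank F (LinearMap.ker N) := by
    let g : LinearMap.ker (N.domRestrict (LinearMap.range N)) →ₗ[F] LinearMap.ker N :=
      { toFun := fun u => ⟨(u.1 : V), by
          have := u.2
          rw [LinearMap.mem_ker] at this ⊢
          exact this⟩
        map_add' := fun _ _ => rfl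
        map_smul' := fun _ _ => rfl }
    apply LinearMap.finrank_le_finrank_of_injective (f := g)
    intro a b hab
    apply Subtype.ext
    apply Subtype.ext
    exact congrArg (fun y : LinearMap.ker N => (y : V)) hab
  omega

end Setup

/-- the logarithm of `1 + N` -/
def lg (N : End F V) : End F V := N + 3 * N ^ 2 + 5 * N ^ 3

namespace Setup

variable {B : LinearMap.BilinForm F V} {x w t : End F V}

lemma D2 (h : Setup B x w t) : lg (x - 1) ^ 2 = (x - 1) ^ 2 + 6 * (x - 1) ^ 3 := by
  have h4 := h.N4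
  set N := x - 1 with hN
  have e : lg N ^ 2 = N ^ 2 + 6 * N ^ 3 + N ^ 4 * (19 + 30 * N + 25 * N ^ 2) := by
    unfold lg; noncomm_ring
  rw [e, h4, zero_mul, add_zero]

lemma D3 (h : Setup B x w t) : lg (x - 1) ^ 3 = (x - 1) ^ 3 := by
  have h4 := h.N4
  have h2 := h.D2
  set N := x - 1 with hN
  have e : (N ^ 2 + 6 * N ^ 3) * lg N = N ^ 3 + N ^ 4 * (9 + 23 * N + 30 * N ^ 2) := by
    unfold lg; noncomm_ring
  rw [pow_succ, h2, e, h4, zero_mul, add_zero]

lemma D4 (h : Setup B x w t) : lg (x - 1) ^ 4 = 0 := by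
  have h4 := h.N4
  have h3 := h.D3
  set N := x - 1 with hN
  have e : N ^ 3 * lg N = N ^ 4 * (1 + 3 * N + 5 * N ^ 2) := by
    unfold lg; noncomm_ring
  rw [pow_succ, h3, e, h4, zero_mul]

lemma x_eq (h : Setup B x w t) : x = 1 + lg (x - 1) + 4 * lg (x - 1) ^ 2 + 6 * lg (x - 1) ^ 3 := by
  rw [h.D2, h.D3]
  have h7 := h.seven_end
  have hx : x = 1 + (x - 1) := by abel
  set N := x - 1 with hN
  nth_rewrite 1 [hx]
  have e : 1 + lg N + 4 * (N ^ 2 + 6 * N ^ 3) + 6 * N ^ 3 = 1 + N + 7 * (N ^ 2 + 5 * N ^ 3) := by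
    unfold lg; noncomm_ring
  rw [e, h7, zero_mul, add_zero]

lemma tD (h : Setup B x w t) : t * lg (x - 1) = 2 * lg (x - 1) * t := by
  have h4 := h.N4
  have h7 := h.seven_end
  have hx : x = 1 + (x - 1) := by abel
  have htx := h.tx
  set N := x - 1 with hN
  have h1 : t * N = (2 * N + N ^ 2) * t := by
    have e : t * N = t * x - t := by rw [hN]; noncomm_ring
    have e2 : (2 * N + N ^ 2) * t = x ^ 2 * t - t := by rw [hN]; noncomm_ring
    rw [e, e2, htx]
  have h2 : t * N ^ 2 = (4 * N ^ 2 + 4 * N ^ 3) * t := by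
    have e : (2 * N + N ^ 2) * (2 * N + N ^ 2) = 4 * N ^ 2 + 4 * N ^ 3 + N ^ 4 := by noncomm_ring
    rw [pow_two, ← mul_assoc, h1, mul_assoc, h1, ← mul_assoc, e, h4, add_zero, ← pow_two]
  have h3 : t * N ^ 3 = (8 * N ^ 3) * t := by
    have e : (4 * N ^ 2 + 4 * N ^ 3) * (2 * N + N ^ 2) = 8 * N ^ 3 + N ^ 4 * (12 + 4 * N) := by noncomm_ring
    rw [pow_succ, ← mul_assoc, h2, mul_assoc, h1, ← mul_assoc, e, h4, zero_mul, add_zero, ← pow_succ]
  have e1 : t * lg N = t * N + 3 * (t * N ^ 2) + 5 * (t * N ^ 3) := by unfold lg; noncomm_ring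
  have e2 : (2 * N + N ^ 2) * t + 3 * ((4 * N ^ 2 + 4 * N ^ 3) * t) + 5 * (8 * N ^ 3 * t) =
      2 * lg N * t + 7 * ((N ^ 2 + 6 * N ^ 3) * t) := by unfold lg; noncomm_ring
  rw [e1, h1, h2, h3, e2, h7, zero_mul, add_zero]


lemma t_lg (h : Setup B x w t) (v : V) : t (lg (x - 1) v) = (2 : F) • lg (x - 1) (t v) := by
  have h1 := congrArg (fun a : End F V => a v) h.tD
  have h2 : (t * lg (x - 1) : End F V) v = t (lg (x - 1) v) := rfl
  have h3 : (2 * lg (x - 1) * t : End F V) v = (2 : F) • lg (x - 1) (t v) := by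
    have : (2 : End F V) = algebraMap F (End F V) 2 := by rw [map_ofNat]
    rw [this]
    rfl
  rw [← h2, ← h3]
  exact h1

lemma B_lg (h : Setup B x w t) (u v : V) : B (lg (x - 1) u) v = - B u (lg (x - 1) v) := by
  have h4 := h.N4
  have h7 := h.seven_end
  have hx : x = 1 + (x - 1) := by abel
  -- the adjoint of `N`
  set N := x - 1 with hN
  have hinv : x ^ 6 = 1 + (6 * N + 15 * N ^ 2 + 20 * N ^ 3) := by
    have e : (1 + N) ^ 6 = 1 + (6 * N + 15 * N ^ 2 + 20 * N ^ 3) + N ^ 4 * (15 + 6 * N + N ^ 2) := by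
      noncomm_ring
    rw [hx, e, h4, zero_mul, add_zero]
  set M := 6 * N + 15 * N ^ 2 + 20 * N ^ 3 with hM
  have hadj : ∀ u v, B (N u) v = B u (M v) := by
    intro u v
    have h1 : B (x u) v = B u ((x ^ 6) v) := by
      have h2 : x ((x ^ 6) v) = v := by
        have := congrArg (fun a : End F V => a v) h.x7
        rw [pow_succ'] at this
        exact this
      rw [← h.Bx u ((x ^ 6) v), h2]
    have h3 : x u = u + N u := by nth_rewrite 1 [hx]; rfl
    have h5 : (x ^ 6) v = v + M v := by rw [hinv]; rfl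
    rw [h3, h5, map_add, map_add, LinearMap.add_apply] at h1
    exact add_left_cancel h1
  have hM2 : M ^ 2 = N ^ 2 * (36 + 180 * N) := by
    have e : M ^ 2 = N ^ 2 * (36 + 180 * N) + N ^ 4 * (465 + 600 * N + 400 * N ^ 2) := by
      rw [hM]; noncomm_ring
    rw [e, h4, zero_mul, add_zero]
  have hM3 : M ^ 3 = 216 * N ^ 3 := by
    have e : N ^ 2 * (36 + 180 * N) * M = 216 * N ^ 3 + N ^ 4 * (1620 + 3420 * N + 3600 * N ^ 2) := by
      rw [hM]; noncomm_ring
    rw [pow_succ, hM2, e, h4, zero_mul, add_zero]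
  have hD' : M + 3 * M ^ 2 + 5 * M ^ 3 = - lg N := by
    have e : M + 3 * (N ^ 2 * (36 + 180 * N)) + 5 * (216 * N ^ 3) = - lg N + 7 * (N + 18 * N ^ 2 + 235 * N ^ 3) := by
      rw [hM]; unfold lg; noncomm_ring
    rw [hM2, hM3, e, h7, zero_mul, add_zero]
  have hsmul : ∀ (n : ℕ) (A : End F V) (v : V), ((n : End F V) * A) v = (n : F) • A v := by
    intro n A v
    have : (n : End F V) = algebraMap F (End F V) n := by rw [map_natCast]
    rw [this]; rfl
  have hl : ∀ (A : End F V) (v : V), (A + 3 * A ^ 2 + 5 * A ^ 3 : End F V) v = A v + (3 : F) • A (A v) + (5 : F) • A (A (A v)) := by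
    intro A v
    have e3 : (3 * A ^ 2 : End F V) v = (3 : F) • A (A v) := by
      have := hsmul 3 (A ^ 2) v
      simpa [pow_succ] using this
    have e5 : (5 * A ^ 3 : End F V) v = (5 : F) • A (A (A v)) := by
      have := hsmul 5 (A ^ 3) v
      simpa [pow_succ] using this
    rw [LinearMap.add_apply, LinearMap.add_apply, e3, e5]
  have e1 : lg N u = N u + (3 : F) • N (N u) + (5 : F) • N (N (N u)) := hl N u
  have e2 : (- lg N) v = M v + (3 : F) • M (M v) + (5 : F) • M (M (M v)) := by
    rw [← hD']; exact hl M v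
  have e3 : - B u (lg N v) = B u ((- lg N) v) := by
    rw [LinearMap.neg_apply, map_neg]
  rw [e3, e2, e1]
  simp only [map_add, map_smul, LinearMap.add_apply, LinearMap.smul_apply, hadj]


lemma two_ne (h : Setup B x w t) : (2 : F) ≠ 0 := by
  intro h2
  have h7 := h.seven
  have : (1 : F) = 7 - 3 * 2 := by norm_num
  rw [h7, h2] at this
  simp at this

lemma three_ne (h : Setup B x w t) : (3 : F) ≠ 0 := by
  intro h2
  have h7 := h.seven
  have : (1 : F) = 7 - 2 * 3 := by norm_num
  rw [h7, h2] at this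
  simp at this

lemma skew (h : Setup B x w t) (u v : V) : B u v = - B v u := by
  have h1 := h.alt (u + v)
  rw [map_add, map_add, LinearMap.add_apply, LinearMap.add_apply, h.alt, h.alt, zero_add, add_zero] at h1
  exact eq_neg_of_add_eq_zero_right h1

lemma sym3 (h : Setup B x w t) (u v : V) :
    B u (lg (x - 1) (lg (x - 1) (lg (x - 1) v))) = B v (lg (x - 1) (lg (x - 1) (lg (x - 1) u))) := by
  have e := h.B_lg
  set D := lg (x - 1)
  have e' : ∀ a b, B a (D b) = - B (D a) b := fun a b => by rw [e, neg_neg]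
  rw [e', e', e', neg_neg, ← h.skew]

lemma t3' (h : Setup B x w t) (v : V) : t (t (t v)) = v := by
  have := congrArg (fun a : End F V => a v) h.t3
  simpa [pow_succ] using this

lemma t_lg3 (h : Setup B x w t) (v : V) :
    t (lg (x - 1) (lg (x - 1) (lg (x - 1) v))) = lg (x - 1) (lg (x - 1) (lg (x - 1) (t v))) := by
  rw [h.t_lg, h.t_lg, h.t_lg, map_smul, map_smul, map_smul, smul_smul, smul_smul]
  have : (2 * 2 * 2 : F) = 1 := by linear_combination h.seven
  rw [this, one_smul]

lemma orth (h : Setup B x w t) {a b : V} {l m : F} (ha : t a = l • a) (hb : t b = m • b) (hlm : l * m ≠ 1) :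
    B a (lg (x - 1) (lg (x - 1) (lg (x - 1) b))) = 0 := by
  have h1 := h.Bt a (lg (x - 1) (lg (x - 1) (lg (x - 1) b)))
  rw [h.t_lg3, ha, hb] at h1
  simp only [map_smul, LinearMap.smul_apply, smul_eq_mul] at h1
  have h2 : (l * m - 1) * B a (lg (x - 1) (lg (x - 1) (lg (x - 1) b))) = 0 := by
    linear_combination h1
  rcases mul_eq_zero.1 h2 with h3 | h3
  · exact absurd (sub_eq_zero.1 h3) hlm
  · exact h3

lemma ker_lg3 (h : Setup B x w t) (v : V) : lg (x - 1) (lg (x - 1) (lg (x - 1) v)) ∈ LinearMap.ker (x - 1) := by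
  have h3 := congrArg (fun a : End F V => a v) h.D3
  have h4 := congrArg (fun a : End F V => a v) h.N4
  have e1 : lg (x - 1) (lg (x - 1) (lg (x - 1) v)) = ((x - 1) ^ 3 : End F V) v := by
    rw [← h.D3]; rfl
  rw [e1, LinearMap.mem_ker]
  have e2 : (x - 1) (((x - 1) ^ 3 : End F V) v) = ((x - 1) ^ 4 : End F V) v := by
    rw [pow_succ' (x - 1) 3]; rfl
  rw [e2, h.N4]; rfl

/-- the fixed vector of `t` generating the space under `x` -/
theorem exists_e (h : Setup B x w t) :
    ∃ e, t e = e ∧ B e (lg (x - 1) (lg (x - 1) (lg (x - 1) e))) ≠ 0 := by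
  have := h.finDim
  have h7 := h.seven
  have h2 := h.two_ne
  have hsym := h.sym3
  have horth := @orth _ _ _ _ _ _ _ _ _ h
  have ht3 := h.t_lg3
  have hker := h.ker_lg3
  have hD3 : ∃ v, lg (x - 1) (lg (x - 1) (lg (x - 1) v)) ≠ 0 := by
    by_contra hcon
    push Not at hcon
    apply h.N3
    rw [← h.D3]
    ext v
    exact hcon v
  set D := lg (x - 1) with hD
  -- a vector with non-zero value
  obtain ⟨v, hv⟩ : ∃ v, B v (D (D (D v))) ≠ 0 := by
    by_contra hcon
    push Not at hcon
    obtain ⟨v, hv⟩ := hD3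
    apply hv
    apply h.nondeg
    intro u
    have h1 := hcon (u + v)
    simp only [map_add, LinearMap.add_apply, hcon, zero_add, add_zero] at h1
    rw [hsym v u] at h1
    have h3 : (2 : F) * B u (D (D (D v))) = 0 := by linear_combination h1
    exact (mul_eq_zero.1 h3).resolve_left h2
  set e1 := v + t v + t (t v) with he1
  set e2 := v + (4 : F) • t v + (2 : F) • t (t v) with he2
  set e4 := v + (2 : F) • t v + (4 : F) • t (t v) with he4
  have h8 : (8 : F) = 1 := by linear_combination h7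
  have h16 : (16 : F) = 2 := by linear_combination 2 * h7
  have t1 : t e1 = (1 : F) • e1 := by
    rw [he1, map_add, map_add, h.t3', one_smul]; abel
  have t2 : t e2 = (2 : F) • e2 := by
    rw [he2, map_add, map_add, map_smul, map_smul, h.t3', smul_add, smul_add, smul_smul, smul_smul]
    have a1 : (2 * 4 : F) = 1 := by linear_combination h7
    have a2 : (2 * 2 : F) = 4 := by norm_num
    rw [a1, a2, one_smul]; abel
  have t4 : t e4 = (4 : F) • e4 := by
    rw [he4, map_add, map_add, map_smul, map_smul, h.t3', smul_add, smul_add, smul_smul, smul_smul]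
    have a1 : (4 * 2 : F) = 1 := by linear_combination h7
    have a2 : (4 * 4 : F) = 2 := by linear_combination 2 * h7
    rw [a1, a2, one_smul]; abel
  have hsum : e1 + e2 + e4 = (3 : F) • v := by
    have a1 : e1 + e2 + e4 = (3 : F) • v + (7 : F) • (t v) + (7 : F) • (t (t v)) := by
      rw [he1, he2, he4]; module
    rw [a1, h7, zero_smul, zero_smul, add_zero, add_zero]
  have n11 : (1 : F) * 2 ≠ 1 := by
    intro h3; exact one_ne_zero (α := F) (by linear_combination h3)
  have n14 : (1 : F) * 4 ≠ 1 := by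
    intro h3; exact h.three_ne (by linear_combination h3)
  have n22 : (2 : F) * 2 ≠ 1 := by
    intro h3; exact h.three_ne (by linear_combination h3)
  have n44 : (4 : F) * 4 ≠ 1 := by
    intro h3; exact one_ne_zero (α := F) (by linear_combination h3 - 2 * h7)
  have z12 := horth t1 t2 n11
  have z21 := horth t2 t1 (by rw [mul_comm]; exact n11)
  have z14 := horth t1 t4 n14
  have z41 := horth t4 t1 (by rw [mul_comm]; exact n14)
  have z22 := horth t2 t2 n22
  have z44 := horth t4 t4 n44
  have hmain : B e1 (D (D (D e1))) + 2 * B e2 (D (D (D e4))) = 9 * B v (D (D (D v))) := by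
    have a1 : B (e1 + e2 + e4) (D (D (D (e1 + e2 + e4)))) = 9 * B v (D (D (D v))) := by
      rw [hsum]
      simp only [map_smul, LinearMap.smul_apply, smul_eq_mul]
      ring
    rw [← a1]
    simp only [map_add, LinearMap.add_apply, z12, z21, z14, z41, z22, z44]
    rw [hsym e4 e2]
    ring
  by_cases hz : B e1 (D (D (D e1))) = 0
  · exfalso
    rw [hz, zero_add] at hmain
    have h9 : (9 : F) ≠ 0 := by
      intro h3; exact h2 (by linear_combination h3 - h7)
    have hne : B e2 (D (D (D e4))) ≠ 0 := by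
      intro h3
      rw [h3, mul_zero] at hmain
      exact (mul_ne_zero h9 hv) hmain.symm
    have n4 : D (D (D e4)) ≠ 0 := by
      intro h3; rw [h3, map_zero] at hne; exact hne rfl
    have n2 : D (D (D e2)) ≠ 0 := by
      intro h3; rw [hsym, h3, map_zero] at hne; exact hne rfl
    obtain ⟨v0, hv0⟩ := finrank_le_one_iff.1 h.finrank_ker_le
    obtain ⟨c4, hc4⟩ := hv0 ⟨_, hker e4⟩
    obtain ⟨c2, hc2⟩ := hv0 ⟨_, hker e2⟩
    have hc4' : c4 • (v0 : V) = D (D (D e4)) := congrArg Subtype.val hc4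
    have hc2' : c2 • (v0 : V) = D (D (D e2)) := congrArg Subtype.val hc2
    have hc20 : c2 ≠ 0 := by
      rintro rfl; rw [zero_smul] at hc2'; exact n2 hc2'.symm
    have s2 : t (D (D (D e2))) = (2 : F) • D (D (D e2)) := by rw [ht3, t2]; simp only [map_smul]
    have s4 : t (D (D (D e4))) = (4 : F) • D (D (D e4)) := by rw [ht3, t4]; simp only [map_smul]
    have hv0t : t (v0 : V) = (2 : F) • (v0 : V) := by
      rw [← hc2', map_smul, smul_smul, mul_comm, ← smul_smul] at s2
      exact smul_right_injective V hc20 s2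
    rw [← hc4', map_smul, hv0t, smul_smul, smul_smul, ← sub_eq_zero, ← sub_smul] at s4
    rcases smul_eq_zero.1 s4 with h3 | h3
    · have h5 : (2 : F) * c4 = 0 := by linear_combination -h3
      have h6 := (mul_eq_zero.1 h5).resolve_left h2
      rw [h6, zero_smul] at hc4'
      exact n4 hc4'.symm
    · rw [h3, smul_zero] at hc4'
      exact n4 hc4'.symm
  · exact ⟨e1, by rw [t1, one_smul], hz⟩


lemma D_b3 (h : Setup B x w t) (v : V) :
    lg (x - 1) (lg (x - 1) (lg (x - 1) (lg (x - 1) v))) = 0 := by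
  have h1 := congrArg (fun a : End F V => a v) h.D4
  simpa [pow_succ] using h1

lemma x_apply (h : Setup B x w t) (v : V) : x v = v + lg (x - 1) v + (4 : F) • lg (x - 1) (lg (x - 1) v) +
    (6 : F) • lg (x - 1) (lg (x - 1) (lg (x - 1) v)) := by
  have hsmul : ∀ (n : ℕ) (A : End F V) (v : V), ((n : End F V) * A) v = (n : F) • A v := by
    intro n A v
    have : (n : End F V) = algebraMap F (End F V) n := by rw [map_natCast]
    rw [this]; rfl
  have h1 := congrArg (fun a : End F V => a v) h.x_eq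
  have e4 : (4 * lg (x - 1) ^ 2 : End F V) v = (4 : F) • lg (x - 1) (lg (x - 1) v) := by
    have := hsmul 4 (lg (x - 1) ^ 2) v
    simpa [pow_succ] using this
  have e6 : (6 * lg (x - 1) ^ 3 : End F V) v = (6 : F) • lg (x - 1) (lg (x - 1) (lg (x - 1) v)) := by
    have := hsmul 6 (lg (x - 1) ^ 3) v
    simpa [pow_succ] using this
  rw [← e4, ← e6]
  exact h1

/-- a good vector -/
structure Good (B : LinearMap.BilinForm F V) (x t : End F V) (e : V) : Prop where
  te : t e = e
  be : B e (lg (x - 1) (lg (x - 1) (lg (x - 1) e))) = 1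

section good
variable {e : V}

lemma g01 (h : Setup B x w t) (g : Good B x t e) : B e (lg (x - 1) e) = 0 := by
  have h1 := h.Bt e (lg (x - 1) e)
  rw [h.t_lg, g.te, map_smul, smul_eq_mul] at h1
  linear_combination h1

lemma g02 (h : Setup B x w t) : B e (lg (x - 1) (lg (x - 1) e)) = 0 := by
  have h1 := h.B_lg e (lg (x - 1) e)
  rw [h.alt] at h1
  linear_combination h1

lemma g12 (h : Setup B x w t) (g : Good B x t e) : B (lg (x - 1) e) (lg (x - 1) (lg (x - 1) e)) = -1 := by
  rw [h.B_lg, g.be]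

lemma g13 (h : Setup B x w t) :
    B (lg (x - 1) e) (lg (x - 1) (lg (x - 1) (lg (x - 1) e))) = 0 := by
  rw [h.B_lg, h.D_b3, map_zero, neg_zero]

lemma g23 (h : Setup B x w t) :
    B (lg (x - 1) (lg (x - 1) e)) (lg (x - 1) (lg (x - 1) (lg (x - 1) e))) = 0 := by
  rw [h.B_lg, h.D_b3, map_zero, neg_zero]

/-- expansion in the basis -/
theorem expand (h : Setup B x w t) (g : Good B x t e) (v : V) : ∃ a b c d : F,
    v = a • e + b • lg (x - 1) e + c • lg (x - 1) (lg (x - 1) e) +
      d • lg (x - 1) (lg (x - 1) (lg (x - 1) e)) := by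
  have := h.finDim
  have e01 := h.g01 g
  have e02 := h.g02 (e := e)
  have e03 := g.be
  have e12 := h.g12 g
  have e13 := h.g13 (e := e)
  have e23 := h.g23 (e := e)
  have hskew := h.skew
  have halt := h.alt
  set b1 := lg (x - 1) e
  set b2 := lg (x - 1) b1
  set b3 := lg (x - 1) b2
  have e10 : B b1 e = 0 := by rw [hskew, e01, neg_zero]
  have e20 : B b2 e = 0 := by rw [hskew, e02, neg_zero]
  have e30 : B b3 e = -1 := by rw [hskew, e03]
  have e21 : B b2 b1 = 1 := by rw [hskew, e12, neg_neg]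
  have e31 : B b3 b1 = 0 := by rw [hskew, e13, neg_zero]
  have e32 : B b3 b2 = 0 := by rw [hskew, e23, neg_zero]
  have hli : LinearIndependent F ![e, b1, b2, b3] := by
    rw [Fintype.linearIndependent_iff]
    intro c hc
    simp only [Fin.sum_univ_four, Matrix.cons_val_zero, Matrix.cons_val_one, Matrix.cons_val] at hc
    have h3 := congrArg (fun v => B b3 v) hc
    have h2 := congrArg (fun v => B b2 v) hc
    have h1 := congrArg (fun v => B b1 v) hc
    have h0 := congrArg (fun v => B e v) hc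
    simp only [map_add, map_smul, smul_eq_mul, map_zero, e01, e02, e03, e12, e13, e23, e10, e20, e30, e21, e31,
      e32, halt] at h0 h1 h2 h3
    have c0 : c 0 = 0 := by linear_combination -h3
    have c1 : c 1 = 0 := by linear_combination h2
    have c2 : c 2 = 0 := by linear_combination -h1
    have c3 : c 3 = 0 := by linear_combination h0
    intro i
    fin_cases i
    · exact c0
    · exact c1
    · exact c2
    · exact c3
  have hspan : Submodule.span F (Set.range ![e, b1, b2, b3]) = ⊤ := by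
    apply hli.span_eq_top_of_card_eq_finrank
    rw [h.dim]; rfl
  have hv : v ∈ Submodule.span F (Set.range ![e, b1, b2, b3]) := by rw [hspan]; exact Submodule.mem_top
  obtain ⟨c, hc⟩ := (Submodule.mem_span_range_iff_exists_fun F).1 hv
  simp only [Fin.sum_univ_four, Matrix.cons_val_zero, Matrix.cons_val_one, Matrix.cons_val] at hc
  exact ⟨c 0, c 1, c 2, c 3, hc.symm⟩

lemma coord (h : Setup B x w t) (g : Good B x t e) {a b c d a' b' c' d' : F}
    (heq : a • e + b • lg (x - 1) e + c • lg (x - 1) (lg (x - 1) e) +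
      d • lg (x - 1) (lg (x - 1) (lg (x - 1) e)) = a' • e + b' • lg (x - 1) e + c' • lg (x - 1) (lg (x - 1) e) +
      d' • lg (x - 1) (lg (x - 1) (lg (x - 1) e))) : a = a' ∧ b = b' ∧ c = c' ∧ d = d' := by
  have e01 := h.g01 g
  have e02 := h.g02 (e := e)
  have e03 := g.be
  have e12 := h.g12 g
  have e13 := h.g13 (e := e)
  have e23 := h.g23 (e := e)
  have hskew := h.skew
  have halt := h.alt
  set b1 := lg (x - 1) e
  set b2 := lg (x - 1) b1
  set b3 := lg (x - 1) b2
  have e10 : B b1 e = 0 := by rw [hskew, e01, neg_zero]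
  have e20 : B b2 e = 0 := by rw [hskew, e02, neg_zero]
  have e30 : B b3 e = -1 := by rw [hskew, e03]
  have e21 : B b2 b1 = 1 := by rw [hskew, e12, neg_neg]
  have e31 : B b3 b1 = 0 := by rw [hskew, e13, neg_zero]
  have e32 : B b3 b2 = 0 := by rw [hskew, e23, neg_zero]
  have h3 := congrArg (fun v => B b3 v) heq
  have h2 := congrArg (fun v => B b2 v) heq
  have h1 := congrArg (fun v => B b1 v) heq
  have h0 := congrArg (fun v => B e v) heq
  simp only [map_add, map_smul, smul_eq_mul, e01, e02, e03, e12, e13, e23, e10, e20, e30, e21, e31,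
      e32, halt] at h0 h1 h2 h3
  refine ⟨?_, ?_, ?_, ?_⟩
  · linear_combination -h3
  · linear_combination h2
  · linear_combination -h1
  · linear_combination h0


lemma t_w (h : Setup B x w t) (v : V) : t (w v) = w (t (t v)) := by
  have h1 : t * w = w * t ^ 2 := by
    have e1 : w * t ^ 2 = t ^ 2 * t ^ 2 * w := by
      rw [pow_two t, ← mul_assoc, h.wt, mul_assoc, h.wt, ← mul_assoc, pow_two]
    have e2 : t ^ 2 * t ^ 2 = t := by
      have : t ^ 2 * t ^ 2 = t ^ 3 * t := by rw [← pow_add, ← pow_succ]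
      rw [this, h.t3, one_mul]
    rw [e1, e2]
  have := congrArg (fun a : End F V => a v) h1
  simpa [pow_succ] using this

/-- the normal form -/
theorem normal (h : Setup B x w t) (hns : ∀ p : F, p * p ≠ -1) (g : Good B x t e) :
    ∃ e', Good B x t e' ∧ w e' = - lg (x - 1) (lg (x - 1) (lg (x - 1) e')) ∧
      w (lg (x - 1) (lg (x - 1) (lg (x - 1) e'))) = e' ∧
      w (lg (x - 1) e') = (3 : F) • lg (x - 1) (lg (x - 1) e') ∧
      w (lg (x - 1) (lg (x - 1) e')) = (2 : F) • lg (x - 1) e' := by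
  have h7 := h.seven
  have h2 := h.two_ne
  have h3 := h.three_ne
  have te := g.te
  have tb1 : t (lg (x - 1) e) = (2 : F) • lg (x - 1) e := by rw [h.t_lg, te]
  have tb2 : t (lg (x - 1) (lg (x - 1) e)) = (4 : F) • lg (x - 1) (lg (x - 1) e) := by
    rw [h.t_lg, tb1, map_smul, smul_smul]; norm_num
  have tb3 : t (lg (x - 1) (lg (x - 1) (lg (x - 1) e))) = lg (x - 1) (lg (x - 1) (lg (x - 1) e)) := by
    rw [h.t_lg3, te]
  -- eigenvectors of t
  have tw0 : t (w e) = w e := by rw [h.t_w, te, te]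
  have tw3 : t (w (lg (x - 1) (lg (x - 1) (lg (x - 1) e)))) = w (lg (x - 1) (lg (x - 1) (lg (x - 1) e))) := by
    rw [h.t_w, tb3, tb3]
  have tw1 : t (w (lg (x - 1) e)) = (4 : F) • w (lg (x - 1) e) := by
    rw [h.t_w, tb1, map_smul, tb1, smul_smul, map_smul]; norm_num
  have tw2 : t (w (lg (x - 1) (lg (x - 1) e))) = (2 : F) • w (lg (x - 1) (lg (x - 1) e)) := by
    rw [h.t_w, tb2, map_smul, tb2, smul_smul, map_smul]
    congr 1
    linear_combination 2 * h7
  have key : ∀ (l a b c d : F), t (a • e + b • lg (x - 1) e + c • lg (x - 1) (lg (x - 1) e) +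
      d • lg (x - 1) (lg (x - 1) (lg (x - 1) e))) = l • (a • e + b • lg (x - 1) e + c • lg (x - 1) (lg (x - 1) e) +
      d • lg (x - 1) (lg (x - 1) (lg (x - 1) e))) → a = l * a ∧ 2 * b = l * b ∧ 4 * c = l * c ∧ d = l * d := by
    intro l a b c d hh
    simp only [map_add, map_smul, te, tb1, tb2, tb3, smul_add, smul_smul] at hh
    have := h.coord g hh
    refine ⟨this.1, ?_, ?_, this.2.2.2⟩
    · linear_combination this.2.1
    · linear_combination this.2.2.1
  obtain ⟨p, b, c, r, hwe⟩ := h.expand g (w e)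
  obtain ⟨q, b', c', s, hw3⟩ := h.expand g (w (lg (x - 1) (lg (x - 1) (lg (x - 1) e))))
  obtain ⟨a1, b1, al, d1, hw1⟩ := h.expand g (w (lg (x - 1) e))
  obtain ⟨a2, be, c2, d2, hw2⟩ := h.expand g (w (lg (x - 1) (lg (x - 1) e)))
  have k0 := key 1 p b c r (by rw [← hwe, one_smul]; exact tw0)
  have k3 := key 1 q b' c' s (by rw [← hw3, one_smul]; exact tw3)
  have k1 := key 4 a1 b1 al d1 (by rw [← hw1]; exact tw1)
  have k2 := key 2 a2 be c2 d2 (by rw [← hw2]; exact tw2)
  have hb : b = 0 := by linear_combination k0.2.1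
  have hc : c = 0 := by
    have : (3 : F) * c = 0 := by linear_combination k0.2.2.1
    exact (mul_eq_zero.1 this).resolve_left h3
  have hb' : b' = 0 := by linear_combination k3.2.1
  have hc' : c' = 0 := by
    have : (3 : F) * c' = 0 := by linear_combination k3.2.2.1
    exact (mul_eq_zero.1 this).resolve_left h3
  have ha1 : a1 = 0 := by
    have : (3 : F) * a1 = 0 := by linear_combination -k1.1
    exact (mul_eq_zero.1 this).resolve_left h3
  have hb1 : b1 = 0 := by
    have : (2 : F) * b1 = 0 := by linear_combination -k1.2.1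
    exact (mul_eq_zero.1 this).resolve_left h2
  have hd1 : d1 = 0 := by
    have : (3 : F) * d1 = 0 := by linear_combination -k1.2.2.2
    exact (mul_eq_zero.1 this).resolve_left h3
  have ha2 : a2 = 0 := by linear_combination -k2.1
  have hc2 : c2 = 0 := by
    have : (2 : F) * c2 = 0 := by linear_combination k2.2.2.1
    exact (mul_eq_zero.1 this).resolve_left h2
  have hd2 : d2 = 0 := by linear_combination -k2.2.2.2
  rw [hb, hc, zero_smul, zero_smul, add_zero, add_zero] at hwe
  rw [hb', hc', zero_smul, zero_smul, add_zero, add_zero] at hw3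
  rw [ha1, hb1, hd1, zero_smul, zero_smul, zero_smul, add_zero, zero_add, zero_add] at hw1
  rw [ha2, hc2, hd2, zero_smul, zero_smul, zero_smul, add_zero, add_zero, zero_add] at hw2
  -- relations
  have ww0 : w (w e) = -e := h.ww e
  rw [hwe, map_add, map_smul, map_smul, hwe, hw3] at ww0
  have c0 := h.coord g (a := p * p + r * q) (b := 0) (c := 0) (d := p * r + r * s) (a' := -1) (b' := 0) (c' := 0)
    (d' := 0) (by
      have : w (w e) = -e := h.ww e
      rw [hwe, map_add, map_smul, map_smul, hwe, hw3] at this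
      linear_combination (norm := module) this)
  have c3 := h.coord g (a := q * p + s * q) (b := 0) (c := 0) (d := q * r + s * s) (a' := 0) (b' := 0) (c' := 0)
    (d' := -1) (by
      have := h.ww (lg (x - 1) (lg (x - 1) (lg (x - 1) e)))
      rw [hw3, map_add, map_smul, map_smul, hwe, hw3] at this
      linear_combination (norm := module) this)
  have c1 := h.coord g (a := 0) (b := al * be) (c := 0) (d := 0) (a' := 0) (b' := -1) (c' := 0)
    (d' := 0) (by
      have := h.ww (lg (x - 1) e)
      rw [hw1, map_smul, hw2] at this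
      linear_combination (norm := module) this)
  have hps : s = -p := by
    by_contra hne
    have hne' : p + s ≠ 0 := fun h0 => hne (by linear_combination h0)
    have hr : r = 0 := by
      have : (p + s) * r = 0 := by linear_combination c0.2.2.2
      exact (mul_eq_zero.1 this).resolve_left hne'
    exact hns p (by linear_combination c0.1 - q * hr)
  have hq0 : q ≠ 0 := by
    rintro rfl
    exact hns p (by linear_combination c0.1)
  -- the relation (x w)^3 = 1
  have hrel : x (w (x (w (lg (x - 1) (lg (x - 1) (lg (x - 1) e)))))) =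
      - w (lg (x - 1) (lg (x - 1) (lg (x - 1) e))) := by
    have hx3 : x (lg (x - 1) (lg (x - 1) (lg (x - 1) e))) = lg (x - 1) (lg (x - 1) (lg (x - 1) e)) := by
      have := h.ker_lg3 e
      rw [LinearMap.mem_ker, LinearMap.sub_apply, sub_eq_zero] at this
      exact this
    have h2 := h.xwxw (-(w (lg (x - 1) (lg (x - 1) (lg (x - 1) e)))))
    rw [map_neg, h.ww, neg_neg, hx3] at h2
    exact h2
  have hx0 := h.x_apply e
  have hx3 : x (lg (x - 1) (lg (x - 1) (lg (x - 1) e))) = lg (x - 1) (lg (x - 1) (lg (x - 1) e)) := by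
    rw [h.x_apply, h.D_b3, map_zero, map_zero, smul_zero, smul_zero, add_zero, add_zero, add_zero]
  have hx2 : x (lg (x - 1) (lg (x - 1) e)) = lg (x - 1) (lg (x - 1) e) +
      lg (x - 1) (lg (x - 1) (lg (x - 1) e)) := by
    rw [h.x_apply, h.D_b3, map_zero, smul_zero, smul_zero, add_zero, add_zero]
  have hx1 : x (lg (x - 1) e) = lg (x - 1) e + lg (x - 1) (lg (x - 1) e) +
      (4 : F) • lg (x - 1) (lg (x - 1) (lg (x - 1) e)) := by
    rw [h.x_apply, h.D_b3, smul_zero, add_zero]
  rw [hw3] at hrel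
  simp only [map_add, map_smul, hx0, hx1, hx2, hx3, hwe, hw3, hw1, hw2, smul_add, smul_smul] at hrel
  have crel := h.coord g (a := 6 * q * q) (b := 6 * q * q + 4 * be * q)
    (c := 4 * (6 * q * q) + 4 * be * q + al * q)
    (d := 6 * (6 * q * q) + 4 * (4 * be * q) + al * q + (q * r - 6 * q * p + p * p))
    (a' := -q) (b' := 0) (c' := 0) (d' := p) (by
      rw [hps] at hrel
      linear_combination (norm := module) hrel)
  have hq1 : q = 1 := by
    have h1 : q * (q - 1) = 0 := by linear_combination -crel.1 + q * q * h7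
    rcases mul_eq_zero.1 h1 with h5 | h5
    · exact absurd h5 hq0
    · linear_combination h5
  have hbe : be = 2 := by
    have h5 := crel.2.1
    rw [hq1] at h5
    have : (4 : F) * (be - 2) = 0 := by linear_combination h5 - 2 * h7
    have h4 : (4 : F) ≠ 0 := by
      intro h0; exact h3 (by linear_combination h7 - h0)
    have := (mul_eq_zero.1 this).resolve_left h4
    linear_combination this
  have hal : al = 3 := by
    have h5 := c1.2.1
    rw [hbe] at h5
    have : (2 : F) * (al - 3) = 0 := by linear_combination h5 - h7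
    have := (mul_eq_zero.1 this).resolve_left h2
    linear_combination this
  have hr1 : r = -1 - p * p := by
    have h5 := c0.1
    rw [hq1] at h5
    linear_combination h5
  rw [hal] at hw1
  rw [hbe] at hw2
  rw [hr1] at hwe
  rw [hq1, hps, one_smul] at hw3
  -- the shifted vector
  have hD1 : lg (x - 1) (e - p • lg (x - 1) (lg (x - 1) (lg (x - 1) e))) = lg (x - 1) e := by
    rw [map_sub, map_smul, h.D_b3, smul_zero, sub_zero]
  refine ⟨e - p • lg (x - 1) (lg (x - 1) (lg (x - 1) e)), ⟨?_, ?_⟩, ?_, ?_, ?_, ?_⟩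
  · rw [map_sub, map_smul, te, tb3]
  · rw [hD1, map_sub, LinearMap.sub_apply, map_smul, LinearMap.smul_apply, h.alt, g.be, smul_zero, sub_zero]
  · rw [hD1, map_sub, map_smul, hwe, hw3]
    module
  · rw [hD1, hw3]; module
  · rw [hD1, hw1]
  · rw [hD1, hw2]

end good


lemma inv_cube (h : Setup B x w t) : (x ^ 6 - 1) ^ 3 = - (x - 1) ^ 3 := by
  have h4 := h.N4
  have h7 := h.seven_end
  have hx : x = 1 + (x - 1) := by abel
  set N := x - 1 with hN
  have hinv : x ^ 6 = 1 + (6 * N + 15 * N ^ 2 + 20 * N ^ 3) := by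
    have e : (1 + N) ^ 6 = 1 + (6 * N + 15 * N ^ 2 + 20 * N ^ 3) + N ^ 4 * (15 + 6 * N + N ^ 2) := by
      noncomm_ring
    rw [hx, e, h4, zero_mul, add_zero]
  rw [hinv, add_sub_cancel_left]
  set M := 6 * N + 15 * N ^ 2 + 20 * N ^ 3 with hM
  have hM2 : M ^ 2 = N ^ 2 * (36 + 180 * N) := by
    have e : M ^ 2 = N ^ 2 * (36 + 180 * N) + N ^ 4 * (465 + 600 * N + 400 * N ^ 2) := by
      rw [hM]; noncomm_ring
    rw [e, h4, zero_mul, add_zero]
  have hM3 : M ^ 3 = 216 * N ^ 3 := by
    have e : N ^ 2 * (36 + 180 * N) * M = 216 * N ^ 3 + N ^ 4 * (1620 + 3420 * N + 3600 * N ^ 2) := by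
      rw [hM]; noncomm_ring
    rw [pow_succ, hM2, e, h4, zero_mul, add_zero]
  have e2 : 216 * N ^ 3 = - (N ^ 3) + 7 * (31 * (N ^ 3)) := by noncomm_ring
  rw [hM3, e2, h7, zero_mul, add_zero]

lemma val_sq (h : Setup B x w t) {e : V} (he : lg (x - 1) (lg (x - 1) (lg (x - 1) e)) ≠ 0) (y : V) :
    ∃ α : F, B y (lg (x - 1) (lg (x - 1) (lg (x - 1) y))) =
      α * α * B e (lg (x - 1) (lg (x - 1) (lg (x - 1) e))) := by
  have := h.finDim
  obtain ⟨v0, hv0⟩ := finrank_le_one_iff.1 h.finrank_ker_le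
  obtain ⟨ce, hce⟩ := hv0 ⟨_, h.ker_lg3 e⟩
  obtain ⟨cy, hcy⟩ := hv0 ⟨_, h.ker_lg3 y⟩
  have hce' : ce • (v0 : V) = lg (x - 1) (lg (x - 1) (lg (x - 1) e)) := congrArg Subtype.val hce
  have hcy' : cy • (v0 : V) = lg (x - 1) (lg (x - 1) (lg (x - 1) y)) := congrArg Subtype.val hcy
  have hce0 : ce ≠ 0 := by
    rintro rfl; rw [zero_smul] at hce'; exact he hce'.symm
  have h1 : lg (x - 1) (lg (x - 1) (lg (x - 1) y)) =
      (cy / ce) • lg (x - 1) (lg (x - 1) (lg (x - 1) e)) := by
    rw [← hce', ← hcy', smul_smul, div_mul_cancel₀ _ hce0]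
  refine ⟨cy / ce, ?_⟩
  rw [h1, map_smul, h.sym3 y e, h1, map_smul, smul_eq_mul, smul_eq_mul, mul_assoc]

lemma no_inv (h : Setup B x w t) (hns : ∀ p : F, p * p ≠ -1) {k : End F V}
    (hk : ∀ u v, B (k u) (k v) = B u v) (hkx : k * x = x ^ 6 * k) : False := by
  obtain ⟨e, -, he⟩ := h.exists_e
  have h4 := h.N4
  have h7 := h.seven_end
  have hx : x = 1 + (x - 1) := by abel
  have hd3 : ∀ v, lg (x - 1) (lg (x - 1) (lg (x - 1) v)) = ((x - 1) ^ 3 : End F V) v := by
    intro v
    rw [← h.D3]; rfl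
  have hne : lg (x - 1) (lg (x - 1) (lg (x - 1) e)) ≠ 0 := by
    intro h0; rw [h0, map_zero] at he; exact he rfl
  obtain ⟨α, hα⟩ := h.val_sq hne (k e)
  rw [hd3, hd3] at hα
  rw [hd3] at he
  have h5 : k * (x - 1) ^ 3 = - ((x - 1) ^ 3 * k) := by
    clear hα he hne hd3
    set N := x - 1 with hN
    have hinv : x ^ 6 = 1 + (6 * N + 15 * N ^ 2 + 20 * N ^ 3) := by
      have e : (1 + N) ^ 6 = 1 + (6 * N + 15 * N ^ 2 + 20 * N ^ 3) + N ^ 4 * (15 + 6 * N + N ^ 2) := by
        noncomm_ring
      rw [hx, e, h4, zero_mul, add_zero]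
    set M := 6 * N + 15 * N ^ 2 + 20 * N ^ 3 with hM
    have hM2 : M ^ 2 = N ^ 2 * (36 + 180 * N) := by
      have e : M ^ 2 = N ^ 2 * (36 + 180 * N) + N ^ 4 * (465 + 600 * N + 400 * N ^ 2) := by
        rw [hM]; noncomm_ring
      rw [e, h4, zero_mul, add_zero]
    have hM3 : M ^ 3 = 216 * N ^ 3 := by
      have e : N ^ 2 * (36 + 180 * N) * M = 216 * N ^ 3 + N ^ 4 * (1620 + 3420 * N + 3600 * N ^ 2) := by
        rw [hM]; noncomm_ring
      rw [pow_succ, hM2, e, h4, zero_mul, add_zero]
    have hkN : k * N = M * k := by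
      have e1 : k * N = k * x - k := by rw [hN]; noncomm_ring
      rw [e1, hkx, hinv]; noncomm_ring
    have hkN3 : k * N ^ 3 = M ^ 3 * k := by
      calc k * N ^ 3 = k * N * N * N := by simp only [pow_succ, pow_zero, one_mul, mul_assoc]
        _ = M * k * N * N := by rw [hkN]
        _ = M * (k * N) * N := by simp only [mul_assoc]
        _ = M * (M * k) * N := by rw [hkN]
        _ = M * M * (k * N) := by simp only [mul_assoc]
        _ = M * M * (M * k) := by rw [hkN]
        _ = M ^ 3 * k := by simp only [pow_succ, pow_zero, one_mul, mul_assoc]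
    rw [hkN3, hM3]
    have e2 : 216 * N ^ 3 * k = - (N ^ 3 * k) + 7 * (31 * (N ^ 3 * k)) := by noncomm_ring
    rw [e2, h7, zero_mul, add_zero]
  have h6 : ((x - 1) ^ 3 : End F V) (k e) = - k (((x - 1) ^ 3 : End F V) e) := by
    have := congrArg (fun a : End F V => a e) h5
    have h8 : k (((x - 1) ^ 3 : End F V) e) = - ((x - 1) ^ 3 : End F V) (k e) := this
    rw [h8, neg_neg]
  rw [h6, map_neg, hk] at hα
  apply hns α
  apply mul_right_cancel₀ he
  rw [← hα]; ring

end Setup

end Cfsg.Agent.H462.LSevenLin
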