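import Mathlib
import Cfsg.Prelude.Def_GeometricClasses
import Cfsg.Agent.H909.SpDouble
import Cfsg.Agent.LieClassical.FieldTransfer
import Cfsg.Agent.H462.LSevenGen
import Cfsg.Agent.H462.LSevenLin
import Cfsg.Agent.H462.LSevenFin

/-!
# `SL_2(7)` is not maximal in `Sp_4(7)` (helper462, task 46)
-/

set_option autoImplicit false

namespace Cfsg.Agent.H462.LSevenMain

open Cfsg Cfsg.Geo Matrix Module
open Cfsg.Agent.ClassicalGeometry.SympBasic
open Cfsg.Agent.H909 Cfsg.Agent.H909.SpDouble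
open Cfsg.Agent.H462.LSeven Cfsg.Agent.H462.LSevenLin
open Cfsg.Agent.H462.LSevenFin (X0 W0 Y0 T0 L0)

universe u v

variable {F : Type u} [Field F]

/-- relations between the generators -/
structure Rel (X W t : GL I4 F) : Prop where
  Xsp : X ∈ spGL 2 F
  Wsp : W ∈ spGL 2 F
  tsp : t ∈ spGL 2 F
  X7 : X ^ 7 = 1
  W2 : W * W = -1
  XW3 : (X * W) ^ 3 = 1
  t3 : t ^ 3 = 1
  tX : t * X = X ^ 2 * t
  Wt : W * t = t⁻¹ * W
  irred : ∀ S : Submodule F (I4 → F), (∀ v ∈ S, (X : Matrix I4 I4 F) *ᵥ v ∈ S) →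
    (∀ v ∈ S, (W : Matrix I4 I4 F) *ᵥ v ∈ S) → S = ⊥ ∨ S = ⊤

/-- the linear map -/
def lin (g : GL I4 F) : End F (I4 → F) := Matrix.toLin' (g : Matrix I4 I4 F)

lemma lin_apply (g : GL I4 F) (v : I4 → F) : lin g v = (g : Matrix I4 I4 F) *ᵥ v := Matrix.toLin'_apply _ _

lemma lin_mul (g k : GL I4 F) : lin (g * k) = lin g * lin k := by
  unfold lin; rw [Units.val_mul, Matrix.toLin'_mul]; rfl

lemma lin_one : lin (1 : GL I4 F) = 1 := by
  unfold lin; rw [Units.val_one, Matrix.toLin'_one]; rfl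

lemma lin_pow (g : GL I4 F) (n : ℕ) : lin (g ^ n) = lin g ^ n := by
  induction n with
  | zero => rw [pow_zero, pow_zero, lin_one]
  | succ n ih => rw [pow_succ, pow_succ, lin_mul, ih]

lemma lin_neg_one : lin (-1 : GL I4 F) = -1 := by
  ext v
  simp [lin]

theorem Rel.setup {X W t : GL I4 F} (h : Rel X W t) (h7 : (7 : F) = 0) :
    Setup (sympBilin 2 F) (lin X) (lin W) (lin t) where
  seven := h7
  dim := by simp
  alt := fun v => by rw [sympBilin_apply, sympForm_self]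
  nondeg := fun v hv => by
    apply eq_zero_of_forall_sympForm_left
    intro u
    have := hv u
    rwa [sympBilin_apply] at this
  Bx := fun u v => by
    rw [sympBilin_apply, sympBilin_apply, lin_apply, lin_apply]; exact H909.mem_spGL_iff.1 h.Xsp u v
  Bw := fun u v => by
    rw [sympBilin_apply, sympBilin_apply, lin_apply, lin_apply]; exact H909.mem_spGL_iff.1 h.Wsp u v
  Bt := fun u v => by
    rw [sympBilin_apply, sympBilin_apply, lin_apply, lin_apply]; exact H909.mem_spGL_iff.1 h.tsp u v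
  x7 := by rw [← lin_pow, h.X7, lin_one]
  w2 := by rw [← lin_mul, h.W2, lin_neg_one]
  xw3 := by rw [← lin_mul, ← lin_pow, h.XW3, lin_one]
  t3 := by rw [← lin_pow, h.t3, lin_one]
  tx := by rw [← lin_mul, h.tX, lin_mul, lin_pow]
  wt := by
    have : t⁻¹ = t ^ 2 := by
      rw [inv_eq_iff_mul_eq_one, ← pow_succ', h.t3]
    rw [← lin_mul, h.Wt, this, lin_mul, lin_pow]
  irred := fun S hx hw => h.irred S (fun v hv => by rw [← lin_apply]; exact hx v hv)
    (fun v hv => by rw [← lin_apply]; exact hw v hv)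


/-- the matrix with given columns -/
def colsM (b0 b1 b2 b3 : I4 → F) : Matrix I4 I4 F :=
  Matrix.of fun i j => (Sum.elim ![b3, b1] ![b0, b2] j : I4 → F) i

lemma colsM_mulVec (b0 b1 b2 b3 v : I4 → F) : colsM b0 b1 b2 b3 *ᵥ v =
    v (Sum.inl 0) • b3 + v (Sum.inl 1) • b1 + (v (Sum.inr 0) • b0 + v (Sum.inr 1) • b2) := by
  ext i
  simp [colsM, Matrix.mulVec, dotProduct, Fin.sum_univ_two, mul_comm]

/-- the map of `GL` -/
abbrev Phi (φ : ZMod 7 →+* F) : GL I4 (ZMod 7) →* GL I4 F := Matrix.GeneralLinearGroup.map φ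

lemma Phi_sp (φ : ZMod 7 →+* F) {g : GL I4 (ZMod 7)} (hg : g ∈ spGL 2 (ZMod 7)) : Phi φ g ∈ spGL 2 F := by
  rw [mem_spGL_iff_transpose] at hg ⊢
  have h1 : ((Phi φ g : GL I4 F) : Matrix I4 I4 F) = ((g : Matrix I4 I4 (ZMod 7))).map φ := rfl
  have h2 : Matrix.J (Fin 2) F = (Matrix.J (Fin 2) (ZMod 7)).map φ := by
    rw [Matrix.J, Matrix.J, Matrix.fromBlocks_map]
    congr 1
    · ext i j; simp
    · ext i j; fin_cases i <;> fin_cases j <;> simp
    · ext i j; fin_cases i <;> fin_cases j <;> simp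
    · ext i j; simp
  rw [h1, h2, ← Matrix.transpose_map, ← Matrix.map_mul, ← Matrix.map_mul, hg]

lemma Phi_injective (φ : ZMod 7 →+* F) : Function.Injective (Phi φ) := by
  intro a b hab
  apply Units.ext
  have h1 : ((a : Matrix I4 I4 (ZMod 7))).map φ = ((b : Matrix I4 I4 (ZMod 7))).map φ :=
    congrArg Units.val hab
  ext i j
  exact φ.injective (congrFun (congrFun h1 i) j)

theorem colsM_symp {b0 b1 b2 b3 : I4 → F} (e01 : sympForm 2 F b0 b1 = 0) (e02 : sympForm 2 F b0 b2 = 0)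
    (e03 : sympForm 2 F b0 b3 = 1) (e12 : sympForm 2 F b1 b2 = -1) (e13 : sympForm 2 F b1 b3 = 0)
    (e23 : sympForm 2 F b2 b3 = 0) : colsM b0 b1 b2 b3 ∈ Matrix.symplecticGroup (Fin 2) F := by
  have e10 : sympForm 2 F b1 b0 = 0 := by rw [sympForm_swap, e01, neg_zero]
  have e20 : sympForm 2 F b2 b0 = 0 := by rw [sympForm_swap, e02, neg_zero]
  have e30 : sympForm 2 F b3 b0 = -1 := by rw [sympForm_swap, e03]
  have e21 : sympForm 2 F b2 b1 = 1 := by rw [sympForm_swap, e12, neg_neg]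
  have e31 : sympForm 2 F b3 b1 = 0 := by rw [sympForm_swap, e13, neg_zero]
  have e32 : sympForm 2 F b3 b2 = 0 := by rw [sympForm_swap, e23, neg_zero]
  rw [mem_symplecticGroup_iff]
  intro u v
  rw [colsM_mulVec, colsM_mulVec]
  simp only [sympForm_add_left, sympForm_add_right, sympForm_smul_left, sympForm_smul_right, sympForm_self,
    e01, e02, e03, e12, e13, e23, e10, e20, e30, e21, e31, e32]
  rw [sympForm_eq_sum, Fin.sum_univ_two]
  ring

theorem key {M : Matrix I4 I4 F} {G : GL I4 F} (hG : (G : Matrix I4 I4 F) = M) (φ : ZMod 7 →+* F)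
    (A : GL I4 F) (A0 : GL I4 (ZMod 7)) (hA : ∀ j : I4, (A : Matrix I4 I4 F) *ᵥ (M *ᵥ Pi.single j 1) =
      M *ᵥ (fun i => φ ((A0 : Matrix I4 I4 (ZMod 7)) i j))) : A * G = G * Phi φ A0 := by
  apply Units.ext
  rw [Units.val_mul, Units.val_mul, hG]
  ext i j
  have h1 := congrFun (hA j) i
  rw [Matrix.mulVec_mulVec, Matrix.mulVec_single_one] at h1
  exact h1

theorem conj_of_frame {X W : GL I4 F} (φ : ZMod 7 →+* F) {b0 b1 b2 b3 : I4 → F}
    (e01 : sympForm 2 F b0 b1 = 0) (e02 : sympForm 2 F b0 b2 = 0)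
    (e03 : sympForm 2 F b0 b3 = 1) (e12 : sympForm 2 F b1 b2 = -1) (e13 : sympForm 2 F b1 b3 = 0)
    (e23 : sympForm 2 F b2 b3 = 0)
    (x0 : (X : Matrix I4 I4 F) *ᵥ b0 = b0 + b1 + (4 : F) • b2 + (6 : F) • b3)
    (x1 : (X : Matrix I4 I4 F) *ᵥ b1 = b1 + b2 + (4 : F) • b3)
    (x2 : (X : Matrix I4 I4 F) *ᵥ b2 = b2 + b3)
    (x3 : (X : Matrix I4 I4 F) *ᵥ b3 = b3)
    (w0 : (W : Matrix I4 I4 F) *ᵥ b0 = (6 : F) • b3)
    (w1 : (W : Matrix I4 I4 F) *ᵥ b1 = (3 : F) • b2)
    (w2 : (W : Matrix I4 I4 F) *ᵥ b2 = (2 : F) • b1)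
    (w3 : (W : Matrix I4 I4 F) *ᵥ b3 = b0) :
    ∃ g : GL I4 F, g ∈ spGL 2 F ∧ X * g = g * Phi φ X0 ∧ W * g = g * Phi φ W0 := by
  have hsymp := colsM_symp e01 e02 e03 e12 e13 e23
  let G : GL I4 F := Matrix.GeneralLinearGroup.mk'' _ (SymplecticGroup.symplectic_det hsymp)
  have hG : (G : Matrix I4 I4 F) = colsM b0 b1 b2 b3 := rfl
  have hX : ((X0 : GL I4 (ZMod 7)) : Matrix I4 I4 (ZMod 7)) =
    Matrix.fromBlocks !![1, 4; 0, 1] !![6, 1; 1, 0] !![0, 0; 0, 1] !![1, 0; 4, 1] := by decide +kernel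
  have hW : ((W0 : GL I4 (ZMod 7)) : Matrix I4 I4 (ZMod 7)) =
    Matrix.fromBlocks !![0, 0; 0, 0] !![6, 0; 0, 2] !![1, 0; 0, 3] !![0, 0; 0, 0] := by decide +kernel
  have f2 : φ 2 = 2 := map_ofNat φ 2
  have f3 : φ 3 = 3 := map_ofNat φ 3
  have f4 : φ 4 = 4 := map_ofNat φ 4
  have f6 : φ 6 = 6 := map_ofNat φ 6
  refine ⟨G, ?_, ?_, ?_⟩
  · rw [mem_spGL_iff_symplectic, hG]; exact hsymp
  · apply key hG
    intro j
    rw [colsM_mulVec, colsM_mulVec, hX]
    rcases j with j | j <;> fin_cases j <;>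
      simp [f4, f6, x0, x1, x2, x3, Matrix.fromBlocks_apply₁₁, Matrix.fromBlocks_apply₁₂, Matrix.fromBlocks_apply₂₁,
        Matrix.fromBlocks_apply₂₂] <;> abel
  · apply key hG
    intro j
    rw [colsM_mulVec, colsM_mulVec, hW]
    rcases j with j | j <;> fin_cases j <;>
      simp [f2, f3, f6, w0, w1, w2, w3, Matrix.fromBlocks_apply₁₁, Matrix.fromBlocks_apply₁₂,
        Matrix.fromBlocks_apply₂₁, Matrix.fromBlocks_apply₂₂]


theorem exists_conj {X W t : GL I4 F} (h : Rel X W t) (h7 : (7 : F) = 0) (hns : ∀ p : F, p * p ≠ -1)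
    (φ : ZMod 7 →+* F) {e : I4 → F} (g : Setup.Good (sympBilin 2 F) (lin X) (lin t) e) :
    ∃ g : GL I4 F, g ∈ spGL 2 F ∧ X * g = g * Phi φ X0 ∧ W * g = g * Phi φ W0 := by
  have hs := h.setup h7
  obtain ⟨e, g, hw0, hw3, hw1, hw2⟩ := hs.normal hns g
  have hx0 := hs.x_apply e
  have hx1 := hs.x_apply (lg (lin X - 1) e)
  have hx2 := hs.x_apply (lg (lin X - 1) (lg (lin X - 1) e))
  have hx3 := hs.x_apply (lg (lin X - 1) (lg (lin X - 1) (lg (lin X - 1) e)))
  simp only [hs.D_b3, map_zero, smul_zero, add_zero] at hx1 hx2 hx3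
  have h6 : (6 : F) = -1 := by linear_combination h7
  have e01 := hs.g01 g
  have e02 := hs.g02 (e := e)
  have e03 := g.be
  have e12 := hs.g12 g
  have e13 := hs.g13 (e := e)
  have e23 := hs.g23 (e := e)
  rw [sympBilin_apply] at e01 e02 e03 e12 e13 e23
  rw [lin_apply] at hx0 hx1 hx2 hx3 hw0 hw1 hw2 hw3
  rw [← neg_one_smul F, ← h6] at hw0
  generalize lg (lin X - 1) = D at *
  exact conj_of_frame φ e01 e02 e03 e12 e13 e23 hx0 hx1 hx2 hx3 hw0 hw1 hw2 hw3

theorem Rel.inv {X W t : GL I4 F} (h : Rel X W t) : Rel X⁻¹ W⁻¹ t where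
  Xsp := inv_mem h.Xsp
  Wsp := inv_mem h.Wsp
  tsp := h.tsp
  X7 := by rw [inv_pow, h.X7, inv_one]
  W2 := by
    rw [← _root_.mul_inv_rev, h.W2]
    rw [inv_eq_iff_mul_eq_one, neg_mul_neg, one_mul]
  XW3 := by
    have h1 : (W * X) ^ 3 = 1 := by
      have : W * X = X⁻¹ * (X * W) * X⁻¹⁻¹ := by group
      rw [this, conj_pow, h.XW3]; group
    rw [← _root_.mul_inv_rev, inv_pow, h1, inv_one]
  t3 := h.t3
  tX := by
    have h1 : t * X * t⁻¹ = X ^ 2 := by rw [h.tX, mul_inv_cancel_right]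
    have h2 : t * X⁻¹ * t⁻¹ = X⁻¹ ^ 2 := by
      rw [inv_pow, ← h1]; group
    rw [← h2, inv_mul_cancel_right]
  Wt := by
    have h1 : W * t * W⁻¹ = t⁻¹ := by rw [h.Wt, mul_inv_cancel_right]
    have h2 : W⁻¹ * t⁻¹ * W = t := by rw [← h1]; group
    have h3 : W⁻¹ * t * W = t⁻¹ := by
      have : W⁻¹ * t * W = (W⁻¹ * t⁻¹ * W)⁻¹ := by group
      rw [this, h2]
    rw [← h3]; group
  irred := fun S hx hw => by
    have hpowX : ∀ n : ℕ, ∀ v ∈ S, ((X⁻¹ ^ n : GL I4 F) : Matrix I4 I4 F) *ᵥ v ∈ S := by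
      intro n
      induction n with
      | zero => intro v hv; simpa using hv
      | succ n ih =>
        intro v hv
        rw [pow_succ, Units.val_mul, ← Matrix.mulVec_mulVec]
        exact ih _ (hx v hv)
    have hpowW : ∀ n : ℕ, ∀ v ∈ S, ((W⁻¹ ^ n : GL I4 F) : Matrix I4 I4 F) *ᵥ v ∈ S := by
      intro n
      induction n with
      | zero => intro v hv; simpa using hv
      | succ n ih =>
        intro v hv
        rw [pow_succ, Units.val_mul, ← Matrix.mulVec_mulVec]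
        exact ih _ (hw v hv)
    have eX : X⁻¹ ^ 6 = X := by
      rw [inv_pow, inv_eq_iff_mul_eq_one, ← pow_succ, h.X7]
    have eW : W⁻¹ ^ 3 = W := by
      rw [inv_pow, inv_eq_iff_mul_eq_one]
      have : W ^ 3 * W = (W * W) * (W * W) := by simp only [pow_succ, pow_zero, one_mul, mul_assoc]
      rw [this, h.W2, neg_mul_neg, one_mul]
    apply h.irred S
    · intro v hv
      have := hpowX 6 v hv
      rwa [eX] at this
    · intro v hv
      have := hpowW 3 v hv
      rwa [eW] at this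

/-- lines of good vectors, up to inversion -/
theorem exists_good {X W t : GL I4 F} (h : Rel X W t) (h7 : (7 : F) = 0)
    (hsq : ∀ c : F, c ≠ 0 → ∃ s : F, s ≠ 0 ∧ (c = s * s ∨ c = -(s * s))) :
    (∃ e, Setup.Good (sympBilin 2 F) (lin X) (lin t) e) ∨
      ∃ e, Setup.Good (sympBilin 2 F) (lin X⁻¹) (lin t) e := by
  have hs := h.setup h7
  have hs' := h.inv.setup h7
  obtain ⟨e, he, hc⟩ := hs.exists_e
  obtain ⟨s, hs0, hcs⟩ := hsq _ hc
  have ht : ∀ c : F, lin t (c • e) = c • e := fun c => by rw [map_smul, he]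
  rcases hcs with hcs | hcs
  · left
    refine ⟨s⁻¹ • e, ht _, ?_⟩
    simp only [map_smul, LinearMap.smul_apply, smul_eq_mul, hcs]
    field_simp
  · right
    refine ⟨s⁻¹ • e, ht _, ?_⟩
    have e6 : X⁻¹ = X ^ 6 := by rw [inv_eq_iff_mul_eq_one, ← pow_succ', h.X7]
    have h1 : ∀ v, lg (lin X⁻¹ - 1) (lg (lin X⁻¹ - 1) (lg (lin X⁻¹ - 1) v)) =
        - lg (lin X - 1) (lg (lin X - 1) (lg (lin X - 1) v)) := by
      intro v
      have h2 : (lg (lin X⁻¹ - 1)) ^ 3 = - (lg (lin X - 1)) ^ 3 := by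
        rw [hs'.D3, hs.D3, e6, lin_pow, hs.inv_cube]
      exact congrArg (fun a : End F (I4 → F) => a v) h2
    rw [h1]
    simp only [map_smul, LinearMap.smul_apply, smul_eq_mul, map_neg, hcs]
    field_simp


lemma field_facts [Fintype F] (hF : Fintype.card F = 7) : (7 : F) = 0 ∧ (∀ p : F, p * p ≠ -1) ∧
    (∀ c : F, c ≠ 0 → ∃ s : F, s ≠ 0 ∧ (c = s * s ∨ c = -(s * s))) ∧ Nonempty (ZMod 7 →+* F) := by
  have hchar : CharP F 7 := by
    obtain ⟨p, hp⟩ := CharP.exists F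
    have := hp
    obtain ⟨n, hpp, hn⟩ := FiniteField.card F p
    rw [hF] at hn
    have h1 : p ∣ 7 := by rw [hn]; exact dvd_pow_self p n.2.ne'
    have h2 : p = 7 := (Nat.prime_dvd_prime_iff_eq hpp (by norm_num)).1 h1
    exact h2 ▸ hp
  let φ : ZMod 7 →+* F := ZMod.castHom (dvd_refl 7) F
  have hinj : Function.Injective φ := φ.injective
  have hbij : Function.Bijective φ := by
    rw [Fintype.bijective_iff_injective_and_card]
    exact ⟨hinj, by rw [ZMod.card, hF]⟩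
  refine ⟨?_, ?_, ?_, ⟨φ⟩⟩
  · have := CharP.cast_eq_zero F 7
    simpa using this
  · intro p hp
    obtain ⟨a, rfl⟩ := hbij.2 p
    have h1 : φ (a * a) = φ (-1) := by rw [map_mul, map_neg, map_one, hp]
    have h2 := hinj h1
    have key : ∀ a : ZMod 7, a * a ≠ -1 := by decide
    exact key a h2
  · intro c hc
    obtain ⟨a, rfl⟩ := hbij.2 c
    have ha : a ≠ 0 := fun h => hc (by rw [h, map_zero])
    have key : ∀ a : ZMod 7, a ≠ 0 → ∃ b : ZMod 7, b ≠ 0 ∧ (a = b * b ∨ a = -(b * b)) := by decide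
    obtain ⟨b, hb, hab⟩ := key a ha
    refine ⟨φ b, fun h => hb (hinj (by rw [h, map_zero])), ?_⟩
    rcases hab with h | h
    · left; rw [h, map_mul]
    · right; rw [h, map_neg, map_mul]

theorem stab_closure {X W : GL I4 F} {S : Submodule F (I4 → F)}
    (hx : ∀ v ∈ S, (X : Matrix I4 I4 F) *ᵥ v ∈ S) (hw : ∀ v ∈ S, (W : Matrix I4 I4 F) *ᵥ v ∈ S)
    (hX : X ^ 7 = 1) (hW : W ^ 4 = 1) :
    ∀ g ∈ Subgroup.closure {X, W}, ∀ v ∈ S, (g : Matrix I4 I4 F) *ᵥ v ∈ S := by
  intro g hg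
  have hpow : ∀ {A : GL I4 F}, (∀ v ∈ S, (A : Matrix I4 I4 F) *ᵥ v ∈ S) → ∀ n : ℕ, ∀ v ∈ S,
      ((A ^ n : GL I4 F) : Matrix I4 I4 F) *ᵥ v ∈ S := by
    intro A hA n
    induction n with
    | zero => intro v hv; simpa using hv
    | succ n ih =>
      intro v hv
      rw [pow_succ, Units.val_mul, ← Matrix.mulVec_mulVec]
      exact ih _ (hA v hv)
  have hXi : X⁻¹ = X ^ 6 := by rw [inv_eq_iff_mul_eq_one, ← pow_succ', hX]
  have hWi : W⁻¹ = W ^ 3 := by rw [inv_eq_iff_mul_eq_one, ← pow_succ', hW]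
  have h2 : (∀ v ∈ S, (g : Matrix I4 I4 F) *ᵥ v ∈ S) ∧
      (∀ v ∈ S, ((g⁻¹ : GL I4 F) : Matrix I4 I4 F) *ᵥ v ∈ S) := by
    induction hg using Subgroup.closure_induction with
    | mem y hy =>
      rcases hy with rfl | hy
      · exact ⟨hx, by rw [hXi]; exact hpow hx 6⟩
      · rw [Set.mem_singleton_iff] at hy
        subst hy
        exact ⟨hw, by rw [hWi]; exact hpow hw 3⟩
    | one => exact ⟨fun v hv => by simpa using hv, fun v hv => by simpa using hv⟩
    | mul a b _ _ ha hb =>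
      refine ⟨fun v hv => ?_, fun v hv => ?_⟩
      · rw [Units.val_mul, ← Matrix.mulVec_mulVec]; exact ha.1 _ (hb.1 v hv)
      · rw [_root_.mul_inv_rev, Units.val_mul, ← Matrix.mulVec_mulVec]; exact hb.2 _ (ha.2 v hv)
    | inv a _ ha => exact ⟨ha.2, by rw [inv_inv]; exact ha.1⟩
  exact h2.1

/-- **`SL_2(7)` is not maximal in `Sp_4(7)`** (it lies in `2.A_7`). -/
theorem l27 [Fintype F] (h7 : Fintype.card F = 7) {H P : Subgroup (GL (Fin 2 ⊕ Fin 2) F)}
    (hH : Cfsg.Geo.IsMaximalIn (Cfsg.spGL 2 F) H) (hcore : Cfsg.Geo.IsResidualCore H P)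
    {K : Type v} [Field K] [Fintype K] (hK : Fintype.card K = 7)
    (e : (P ⧸ (Cfsg.Geo.scalars (Fin 2 ⊕ Fin 2) F).subgroupOf P) ≃* Matrix.ProjectiveSpecialLinearGroup (Fin 2) K) :
    False := by
  obtain ⟨seven, hns, hsq, ⟨φ⟩⟩ := field_facts h7
  have two : (2 : F) ≠ 0 := by
    intro h2
    have : (1 : F) = 7 - 3 * 2 := by norm_num
    rw [seven, h2] at this
    simp at this
  have ctx : Ctx P := ⟨two, hcore.le.trans hH.1.le, hcore.perfect, hcore.simple, hcore.nonabelian⟩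
  have hneg := ctx.neg_one_mem
  -- the cover
  obtain ⟨-, -, -, ⟨ψ⟩⟩ := field_facts hK
  have hψ : Function.Bijective ψ := by
    rw [Fintype.bijective_iff_injective_and_card]
    exact ⟨ψ.injective, by rw [ZMod.card, hK]⟩
  let E : (P ⧸ Zs P) ≃* L7 :=
    e.trans (Cfsg.Agent.LieClassical.FieldTransfer.pslCongr (RingEquiv.ofBijective ψ hψ).symm)
  let f : P →* L7 := E.toMonoidHom.comp (QuotientGroup.mk' (Zs P))
  have hTC := ctx.twoCov
  have hcov : TwoCov f (SpDouble.Ctx.neg hneg) := {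
    ne := hTC.ne
    sq := hTC.sq
    cen := hTC.cen
    surj := E.surjective.comp hTC.surj
    ker := fun x => by
      rw [← hTC.ker x]
      change E (QuotientGroup.mk' (Zs P) x) = 1 ↔ _
      rw [map_eq_one_iff E E.injective]
    two := hTC.two }
  obtain ⟨X, W, t, hG⟩ := exists_gens hcov
  have hPsp : P ≤ spGL 2 F := ctx.le
  -- closure
  have hgen : Subgroup.closure {(X : GL I4 F), (W : GL I4 F)} = P := by
    have h1 := congrArg (Subgroup.map P.subtype) hG.gen
    rw [MonoidHom.map_closure, Set.image_pair, ← MonoidHom.range_eq_map, Subgroup.range_subtype] at h1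
    exact h1
  have hX7 : (X : GL I4 F) ^ 7 = 1 := congrArg Subtype.val hG.X7
  have hW2 : (W : GL I4 F) * W = -1 := congrArg Subtype.val hG.W2
  have hXW3 : ((X : GL I4 F) * W) ^ 3 = 1 := congrArg Subtype.val hG.XW3
  have ht3 : (t : GL I4 F) ^ 3 = 1 := congrArg Subtype.val hG.t3
  have htX : (t : GL I4 F) * X = X ^ 2 * t := congrArg Subtype.val hG.tX
  have hWt : (W : GL I4 F) * t = t⁻¹ * W := congrArg Subtype.val hG.Wt
  have hW4 : (W : GL I4 F) ^ 4 = 1 := by
    have : (W : GL I4 F) ^ 4 = (W * W) * (W * W) := by simp only [pow_succ, pow_zero, one_mul, mul_assoc]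
    rw [this, hW2, neg_mul_neg, one_mul]
  have hrel : Rel (X : GL I4 F) W t := {
    Xsp := hPsp X.2
    Wsp := hPsp W.2
    tsp := hPsp t.2
    X7 := hX7
    W2 := hW2
    XW3 := hXW3
    t3 := ht3
    tX := htX
    Wt := hWt
    irred := fun S hx hw => by
      apply hcore.absIrred.1 S
      rintro s ⟨g, hg, rfl⟩
      rw [Submodule.map_le_iff_le_comap]
      intro v hv
      rw [Submodule.mem_comap, Matrix.toLin'_apply]
      refine stab_closure hx hw hX7 hW4 g ?_ v hv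
      rw [hgen]; exact hg }
  have hs := hrel.setup seven
  -- H = P
  have hHP : H ≤ P := by
    intro h hh
    have hhsp : h ∈ spGL 2 F := hH.1.le hh
    -- conjugate of X
    have hcX : h * X * h⁻¹ ∈ P := hcore.normal h hh X X.2
    set X' : P := ⟨h * X * h⁻¹, hcX⟩ with hX'
    have hX'7 : X' ^ 7 = 1 := by
      apply Subtype.ext
      change (h * X * h⁻¹) ^ 7 = 1
      rw [conj_pow, hX7, mul_one, mul_inv_cancel]
    have hX'1 : X' ≠ 1 := by
      intro h1
      have h2 : h * X * h⁻¹ = 1 := congrArg Subtype.val h1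
      have h3 : (X : GL I4 F) = 1 := by
        calc (X : GL I4 F) = h⁻¹ * (h * X * h⁻¹) * h := by group
          _ = 1 := by rw [h2]; group
      have h4 : X = 1 := Subtype.ext h3
      have h5 := hG.fX
      rw [h4, map_one] at h5
      exact mk_u_ne h5.symm
    obtain ⟨k, hk⟩ : ∃ k : P, k * X = X' * k ∨ k * X = X'⁻¹ * k := by
      obtain ⟨g0, hg0⟩ := QuotientGroup.mk'_surjective (Subgroup.center S7) (f X')
      have hg0 : mk g0 = f X' := hg0
      obtain ⟨g, hg, hg7⟩ : ∃ g : S7, mk g = f X' ∧ g ^ 7 = 1 := by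
        have h1 : mk (g0 ^ 7) = 1 := by rw [map_pow, hg0, ← map_pow, hX'7, map_one]
        rcases eq_of_mk_eq_one h1 with h2 | h2
        · exact ⟨g0, hg0, h2⟩
        · exact ⟨-g0, by rw [mk_neg, hg0], by rw [Odd.neg_pow (by decide), h2, neg_neg]⟩
      have hinv : ∀ y z : P, y ^ 7 = 1 → z ^ 7 = 1 → f y = f z → y = z := fun y z hy hz hyz =>
        odd_lift_unique hcov (by decide) hy hz hyz
      rcases conj_u g hg7 with h1 | ⟨k0, h1 | h1⟩
      · exfalso
        rw [h1, map_one] at hg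
        have h2 := hinv X' 1 hX'7 (one_pow 7) (by rw [← hg, map_one])
        exact hX'1 h2
      · obtain ⟨k, hk⟩ := hcov.surj (mk k0)
        refine ⟨k, Or.inl ?_⟩
        have h2 : k * X * k⁻¹ = X' := by
          apply hinv _ _ (by rw [conj_pow, hG.X7, mul_one, mul_inv_cancel]) hX'7
          rw [map_mul, map_mul, map_inv, hk, hG.fX, ← hg, ← map_mul, ← map_inv, ← map_mul, h1,
            mul_inv_cancel_right]
        rw [← h2, inv_mul_cancel_right]
      · obtain ⟨k, hk⟩ := hcov.surj (mk k0)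
        refine ⟨k, Or.inr ?_⟩
        have h2 : k * X * k⁻¹ = X'⁻¹ := by
          apply hinv _ _ (by rw [conj_pow, hG.X7, mul_one, mul_inv_cancel]) (by rw [inv_pow, hX'7, inv_one])
          rw [map_mul, map_mul, map_inv, map_inv, hk, hG.fX, ← hg, ← map_mul, ← map_inv, ← map_mul, h1,
            mul_inv_cancel_right, map_inv]
        rw [← h2, inv_mul_cancel_right]
    rcases hk with hk | hk
    · -- the element centralising X
      have hk' : (k : GL I4 F) * X = h * X * h⁻¹ * k := congrArg Subtype.val hk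
      set h1 : GL I4 F := (k : GL I4 F)⁻¹ * h with hh1
      have hh1X : h1 * X = X * h1 := by
        rw [hh1]
        calc (k : GL I4 F)⁻¹ * h * X = (k : GL I4 F)⁻¹ * (h * X * h⁻¹ * k) * ((k : GL I4 F)⁻¹ * h) := by group
          _ = (k : GL I4 F)⁻¹ * (k * X) * ((k : GL I4 F)⁻¹ * h) := by rw [hk']
          _ = X * ((k : GL I4 F)⁻¹ * h) := by group
      have hh1H : h1 ∈ H := mul_mem (inv_mem (hcore.le k.2)) hh
      have hcW : h1 * W * h1⁻¹ ∈ P := hcore.normal h1 hh1H W W.2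
      obtain ⟨n, hn⟩ := hG.uniq ⟨h1 * W * h1⁻¹, hcW⟩ (by
        apply Subtype.ext
        change h1 * W * h1⁻¹ * (h1 * W * h1⁻¹) = -1
        have : h1 * W * h1⁻¹ * (h1 * W * h1⁻¹) = h1 * (W * W) * h1⁻¹ := by group
        rw [this, hW2, mul_neg, neg_mul, mul_one, mul_inv_cancel]) (by
        apply Subtype.ext
        change ((X : GL I4 F) * (h1 * W * h1⁻¹)) ^ 3 = 1
        have : (X : GL I4 F) * (h1 * W * h1⁻¹) = h1 * (X * W) * h1⁻¹ := by
          calc (X : GL I4 F) * (h1 * W * h1⁻¹) = X * h1 * (W * h1⁻¹) := by group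
            _ = h1 * X * (W * h1⁻¹) := by rw [hh1X]
            _ = _ := by group
        rw [this, conj_pow, hXW3, mul_one, mul_inv_cancel])
      have hn' : (X : GL I4 F) ^ n * W = h1 * W * h1⁻¹ * X ^ n := congrArg Subtype.val hn
      set h2 : GL I4 F := ((X : GL I4 F) ^ n)⁻¹ * h1 with hh2
      have hh2X : Commute h2 (X : GL I4 F) := by
        have c1 : Commute h1 (X : GL I4 F) := hh1X
        exact (((Commute.refl (X : GL I4 F)).pow_left n).inv_left).mul_left c1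
      have hh2W : Commute h2 (W : GL I4 F) := by
        change h2 * W = W * h2
        rw [hh2]
        calc ((X : GL I4 F) ^ n)⁻¹ * h1 * W = ((X : GL I4 F) ^ n)⁻¹ * (h1 * W * h1⁻¹ * X ^ n) * (((X : GL I4 F) ^ n)⁻¹ * h1) := by
              group
          _ = ((X : GL I4 F) ^ n)⁻¹ * (X ^ n * W) * (((X : GL I4 F) ^ n)⁻¹ * h1) := by rw [hn']
          _ = _ := by group
      have hcomm : ∀ x ∈ P, Commute h2 x := by
        intro x hx
        rw [← hgen] at hx
        induction hx using Subgroup.closure_induction with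
        | mem y hy =>
          rcases hy with rfl | hy
          · exact hh2X
          · rw [Set.mem_singleton_iff] at hy; subst hy; exact hh2W
        | one => exact Commute.one_right _
        | mul a b _ _ ha hb => exact ha.mul_right hb
        | inv a _ ha => exact ha.inv_right
      have hh2H : h2 ∈ H := mul_mem (inv_mem (pow_mem (hcore.le X.2) n)) hh1H
      have hsc := hcore.centralizer_scalar h2 hh2H (fun x hx => by
        have := hcomm x hx
        rw [this.eq, mul_inv_cancel_right, mul_inv_cancel]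
        exact one_mem _)
      have h2P : h2 ∈ P := by
        rcases scalar_cases (hH.1.le hh2H) hsc with h3 | h3
        · rw [h3]; exact one_mem _
        · rw [h3]; exact hneg
      have : h = k * ((X : GL I4 F) ^ n * h2) := by
        rw [hh2, hh1]; group
      rw [this]
      exact mul_mem k.2 (mul_mem (pow_mem X.2 n) h2P)
    · exfalso
      have hk' : (k : GL I4 F) * X = (h * X * h⁻¹)⁻¹ * k := congrArg Subtype.val hk
      set h1 : GL I4 F := (k : GL I4 F)⁻¹ * h with hh1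
      have hh1sp : h1 ∈ spGL 2 F := mul_mem (inv_mem (hPsp k.2)) hhsp
      have hXi : (X : GL I4 F)⁻¹ = X ^ 6 := by rw [inv_eq_iff_mul_eq_one, ← pow_succ', hX7]
      have hh1X : h1 * X = X ^ 6 * h1 := by
        rw [← hXi]
        have e1 : (k : GL I4 F)⁻¹ * (h * X * h⁻¹) * k = (X : GL I4 F)⁻¹ := by
          have : (X : GL I4 F) = (k : GL I4 F)⁻¹ * ((h * X * h⁻¹)⁻¹ * k) := by rw [← hk']; group
          nth_rewrite 2 [this]
          group
        rw [hh1, ← e1]; group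
      apply hs.no_inv hns (k := lin h1)
      · intro u v
        rw [sympBilin_apply, sympBilin_apply, lin_apply, lin_apply]
        exact H909.mem_spGL_iff.1 hh1sp u v
      · rw [← lin_mul, hh1X, lin_mul, lin_pow]
  have hHP' : H = P := le_antisymm hHP hcore.le
  -- the conjugating element
  obtain ⟨g, hg, hgP⟩ : ∃ g : GL I4 F, g ∈ spGL 2 F ∧
      P ≤ (L0.map (Phi φ)).map (MulAut.conj g).toMonoidHom := by
    have hmem : ∀ {A : GL I4 F} {A0 : GL I4 (ZMod 7)} {g : GL I4 F}, A * g = g * Phi φ A0 → A0 ∈ L0 →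
        A ∈ (L0.map (Phi φ)).map (MulAut.conj g).toMonoidHom := by
      intro A A0 g hA hA0
      refine ⟨Phi φ A0, ⟨A0, hA0, rfl⟩, ?_⟩
      change g * Phi φ A0 * g⁻¹ = A
      rw [← hA, mul_inv_cancel_right]
    rcases exists_good hrel seven hsq with ⟨e, he⟩ | ⟨e, he⟩
    · obtain ⟨g, hg, h1, h2⟩ := exists_conj hrel seven hns φ he
      refine ⟨g, hg, ?_⟩
      rw [← hgen, Subgroup.closure_le]
      rintro x (rfl | hx)
      · exact hmem h1 LSevenFin.X0_mem
      · rw [Set.mem_singleton_iff] at hx; subst hx; exact hmem h2 LSevenFin.W0_mem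
    · obtain ⟨g, hg, h1, h2⟩ := exists_conj hrel.inv seven hns φ he
      refine ⟨g, hg, ?_⟩
      rw [← hgen, Subgroup.closure_le]
      rintro x (rfl | hx)
      · have := inv_mem (hmem h1 LSevenFin.X0_mem)
        rwa [inv_inv] at this
      · rw [Set.mem_singleton_iff] at hx; subst hx
        have := inv_mem (hmem h2 LSevenFin.W0_mem)
        rwa [inv_inv] at this
  set M := (L0.map (Phi φ)).map (MulAut.conj g).toMonoidHom with hM
  have hMsp : M ≤ spGL 2 F := by
    rintro _ ⟨_, ⟨A0, hA0, rfl⟩, rfl⟩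
    change g * Phi φ A0 * g⁻¹ ∈ spGL 2 F
    exact mul_mem (mul_mem hg (Phi_sp φ hA0.1)) (inv_mem hg)
  have hmemM : ∀ A0 : GL I4 (ZMod 7), g * Phi φ A0 * g⁻¹ ∈ M → A0 ∈ L0 := by
    rintro A0 ⟨_, ⟨B0, hB0, rfl⟩, h1⟩
    have h2 : g * Phi φ B0 * g⁻¹ = g * Phi φ A0 * g⁻¹ := h1
    have h3 := mul_left_cancel (mul_right_cancel h2)
    rw [← Phi_injective φ h3]; exact hB0
  rcases hH.2 M (hHP'.le.trans hgP) hMsp with h1 | h1
  · -- M = P, an element of order five
    have hY : g * Phi φ Y0 * g⁻¹ ∈ P := by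
      rw [← hHP', ← h1]
      exact ⟨Phi φ Y0, ⟨Y0, LSevenFin.Y0_mem, rfl⟩, rfl⟩
    set Y : P := ⟨g * Phi φ Y0 * g⁻¹, hY⟩ with hYdef
    have hY5 : Y ^ 5 = 1 := by
      apply Subtype.ext
      change (g * Phi φ Y0 * g⁻¹) ^ 5 = 1
      rw [conj_pow, ← map_pow, LSevenFin.Y0_five, map_one, mul_one, mul_inv_cancel]
    have hY1 : Y = 1 := by
      obtain ⟨g0, hg0⟩ := QuotientGroup.mk'_surjective (Subgroup.center S7) (f Y)
      have hg0 : mk g0 = f Y := hg0
      have h2 : f Y = 1 := by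
        have h3 : mk (g0 ^ 5) = 1 := by rw [map_pow, hg0, ← map_pow, hY5, map_one]
        rcases eq_of_mk_eq_one h3 with h4 | h4
        · rw [← hg0, five g0 h4, map_one]
        · have h5 : (-g0) ^ 5 = 1 := by rw [Odd.neg_pow (by decide), h4, neg_neg]
          have h6 := five _ h5
          rw [← hg0, ← mk_neg, h6, map_one]
      exact odd_lift_unique hcov (n := 5) (by decide) hY5 (one_pow 5) (by rw [h2, map_one])
    have h2 : g * Phi φ Y0 * g⁻¹ = 1 := congrArg Subtype.val hY1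
    have h3 : Phi φ Y0 = Phi φ 1 := by
      rw [map_one]
      calc Phi φ Y0 = g⁻¹ * (g * Phi φ Y0 * g⁻¹) * g := by group
        _ = 1 := by rw [h2]; group
    exact LSevenFin.Y0_ne (Phi_injective φ h3)
  · apply LSevenFin.T0_not_mem
    apply hmemM
    rw [h1]
    exact mul_mem (mul_mem hg (Phi_sp φ LSevenFin.T0_sp)) (inv_mem hg)

end Cfsg.Agent.H462.LSevenMain
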